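import Groth.Agent.Lib.Disp23.Key

/-!
# Base change of 3n-displays
-/

universe u v w

open W4c1extbt610 Dieu

noncomputable section

namespace Groth.Agent.Disp23

section Gen

variable {p : ℕ} [Fact p.Prime] {R : Type u} [CommRing R]
variable {P : Type v} [AddCommGroup P] [Module (WittVector p R) P]

theorem F_eq_Vinv (D : Display3n p R P) (x : P) : D.F x = D.Vinv ⟨WittVector.verschiebung (1 : WittVector p R) • x,
    D.IV_smul_le (Submodule.smul_mem_smul (verschiebung_mem_IV p R 1) Submodule.mem_top)⟩ := by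
  rw [D.Vinv_verschiebung_smul, one_smul]

/-- A 3n-display structure is determined by `Q` and `V⁻¹`. -/
theorem display_ext {D D' : Display3n p R P} (hQ : D.Q = D'.Q)
    (hV : ∀ (y : P) (hy : y ∈ D.Q) (hy' : y ∈ D'.Q), D.Vinv ⟨y, hy⟩ = D'.Vinv ⟨y, hy'⟩) : D = D' := by
  have hF : D.F = D'.F := LinearMap.ext fun x => by
    rw [F_eq_Vinv, F_eq_Vinv]
    exact hV _ _ _
  rcases D with ⟨Q, F, Vi, h1, h2, h3, h4, h5, h6⟩
  rcases D' with ⟨Q', F', Vi', h1', h2', h3', h4', h5', h6'⟩
  cases hQ
  cases hF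
  have : Vi = Vi' := LinearMap.ext fun ⟨y, hy⟩ => hV y hy hy
  cases this
  rfl

/-- An additive map on `L ⊔ I T` is determined by its values on `L` and on `V u • x`. -/
theorem addHom_ext {N : Type w} [AddCommGroup N] (Q : Submodule (WittVector p R) P)
    {T L : Submodule (WittVector p R) P} (hQ : Q = L ⊔ IV p R • T) (g g' : Q →+ N)
    (h₁ : ∀ (l : P) (_ : l ∈ L) (hq : l ∈ Q), g ⟨l, hq⟩ = g' ⟨l, hq⟩)
    (h₂ : ∀ (u : WittVector p R) (x : P) (_ : x ∈ T) (hq : WittVector.verschiebung u • x ∈ Q),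
      g ⟨_, hq⟩ = g' ⟨_, hq⟩) :
    g = g' := by
  refine AddMonoidHom.ext fun ⟨y, hy⟩ => ?_
  have hy' := hy
  rw [hQ, Submodule.mem_sup] at hy'
  obtain ⟨l, hl, z, hz, rfl⟩ := hy'
  have hlQ : l ∈ Q := hQ ▸ Submodule.mem_sup_left hl
  obtain ⟨hzQ, hgz⟩ : ∃ hq : z ∈ Q, g ⟨z, hq⟩ = g' ⟨z, hq⟩ := by
    refine Submodule.smul_induction_on (p := fun z => ∃ hq : z ∈ Q, g ⟨z, hq⟩ = g' ⟨z, hq⟩) hz
      (fun r hr x hx => ?_) (fun a b ⟨ha, ha'⟩ ⟨hb, hb'⟩ => ⟨add_mem ha hb, ?_⟩)
    · obtain ⟨u, rfl⟩ := exists_verschiebung_eq hr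
      have hq : WittVector.verschiebung u • x ∈ Q :=
        hQ ▸ Submodule.mem_sup_right (Submodule.smul_mem_smul (verschiebung_mem_IV p R u) hx)
      exact ⟨hq, h₂ u x hx hq⟩
    · rw [show (⟨a + b, add_mem ha hb⟩ : Q) = ⟨a, ha⟩ + ⟨b, hb⟩ from rfl, map_add, map_add, ha', hb']
  rw [show (⟨l + z, hy⟩ : Q) = ⟨l, hlQ⟩ + ⟨z, hzQ⟩ from rfl, map_add, map_add, h₁ l hl hlQ, hgz]

theorem isHom_of_Vinv {P' : Type w} [AddCommGroup P'] [Module (WittVector p R) P'] (D : Display3n p R P)
    (D' : Display3n p R P') (ψ : P →ₗ[WittVector p R] P') (hm : ∀ q, q ∈ D.Q → ψ q ∈ D'.Q)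
    (hV : ∀ q : D.Q, ψ (D.Vinv q) = D'.Vinv ⟨ψ q, hm q q.2⟩) : IsHom D D' ψ := by
  refine ⟨hm, fun x => ?_, hV⟩
  rw [F_eq_Vinv, F_eq_Vinv, hV]
  exact congrArg _ (Subtype.ext (map_smul ψ _ x))

end Gen

section Maps

variable {p : ℕ} [Fact p.Prime] {S R : Type u} [CommRing S] [CommRing R] (f : S →+* R)
variable {P : Type v} [AddCommGroup P] [Module (WittVector p S) P]

local notation "Wf" => (WittVector.map f : WittVector p S →+* WittVector p R)
local notation "σS" => (WittVector.frobenius : WittVector p S →+* WittVector p S)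
local notation "σR" => (WittVector.frobenius : WittVector p R →+* WittVector p R)

theorem map_frobenius_comm (x : WittVector p S) :
    Wf (WittVector.frobenius x) = WittVector.frobenius (Wf x) :=
  ((WittVector.frobenius_isPoly p).map f x).symm ▸ rfl

theorem frobenius_comp_map : (RingHom.comp σR Wf) = (RingHom.comp Wf σS) :=
  RingHom.ext fun x => (map_frobenius_comm f x).symm

/-- The base change of a semilinear endomorphism: `w ⊗ x ↦ σ w ⊗ φ x`. -/
def bcEnd (φ : P →ₛₗ[σS] P) : BC Wf P →ₛₗ[σR] BC Wf P where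
  toFun z := BC.lift ((RingHom.comp Wf σS))
    ({ toFun := fun x => BC.ι Wf P (φ x)
       map_add' := fun x y => by rw [map_add, map_add]
       map_smul' := fun c x => by rw [LinearMap.map_smulₛₗ, LinearMap.map_smulₛₗ, RingHom.comp_apply] } :
      P →ₛₗ[(RingHom.comp Wf σS)] BC Wf P)
    (BC.castHom (frobenius_comp_map f) (BC.push Wf σR z))
  map_add' a b := by simp only [map_add]
  map_smul' c z := by simp only [LinearMap.map_smulₛₗ, RingHom.id_apply]

theorem bcEnd_tmul (φ : P →ₛₗ[σS] P) (w : WittVector p R) (x : P) :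
    bcEnd f φ (BC.tmul Wf w x) = BC.tmul Wf (WittVector.frobenius w) (φ x) := by
  show BC.lift ((RingHom.comp Wf σS)) _ (BC.castHom (frobenius_comp_map f) (BC.push Wf σR (BC.tmul Wf w x))) = _
  rw [BC.push_tmul, BC.castHom_tmul, BC.lift_tmul, LinearMap.coe_mk, AddHom.coe_mk, BC.ι_apply, BC.smul_tmul,
    mul_one]

theorem bc_span_eq_top {s : Set P} (hs : Submodule.span (WittVector p S) s = ⊤) :
    Submodule.span (WittVector p R) ((fun x => BC.tmul Wf 1 x) '' s) = ⊤ := by
  rw [eq_top_iff]
  intro z _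
  induction z using BC.induction_on with
  | zero => exact zero_mem _
  | add a b ha hb => exact add_mem (ha Submodule.mem_top) (hb Submodule.mem_top)
  | tmul w x =>
    rw [BC.tmul_eq_smul_tmul_one]
    refine Submodule.smul_mem _ _ ?_
    have hx : x ∈ Submodule.span (WittVector p S) s := hs ▸ Submodule.mem_top
    refine Submodule.span_induction ?_ ?_ ?_ ?_ hx
    · exact fun y hy => Submodule.subset_span ⟨y, hy, rfl⟩
    · rw [BC.tmul_zero]; exact zero_mem _
    · intro a b _ _ ha hb; rw [BC.tmul_add]; exact add_mem ha hb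
    · intro a y _ hy
      rw [← BC.tmul_apply_eq, BC.tmul_eq_smul_tmul_one]
      exact Submodule.smul_mem _ _ hy

theorem constantCoeff_comp_map :
    (WittVector.constantCoeff : WittVector p R →+* R).comp Wf = f.comp WittVector.constantCoeff :=
  RingHom.ext fun x => WittVector.map_coeff f x 0

/-- The coordinate of `P ⧸ Q` in `S`, extended to `R`. -/
theorem constantCoeff_bcFun_eq_zero (Q : Submodule (WittVector p S) P) (φ : P →ₗ[WittVector p S] WittVector p S)
    (hφ : ∀ y ∈ Q, φ y ∈ IV p S) {z : BC Wf P} (hz : bcQuotMap f Q z = 0) :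
    WittVector.constantCoeff (bcFun Wf φ z) = 0 := by
  let g := (WittVector.constantCoeff : WittVector p R →+* R).comp Wf
  let d₀ : P →ₛₗ[g] R :=
    { toFun := fun x => g (φ x)
      map_add' := fun a b => by rw [map_add, map_add]
      map_smul' := fun c x => by rw [map_smul, smul_eq_mul, map_mul, smul_eq_mul] }
  have hd : Q ≤ LinearMap.ker d₀ := fun y hy => by
    have := hφ y hy
    rw [IV_eq_ker, RingHom.mem_ker] at this
    show g (φ y) = 0
    simp only [g, constantCoeff_comp_map, RingHom.comp_apply, this, map_zero]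
  let d : (P ⧸ Q) →ₛₗ[g] R := Q.liftQ d₀ hd
  have : ∀ z, WittVector.constantCoeff (bcFun Wf φ z) = BC.lift g d (bcQuotMap f Q z) := fun z => by
    induction z using BC.induction_on with
    | zero => simp
    | add a b ha hb => simp only [map_add, ha, hb]
    | tmul w x =>
      rw [bcFun_tmul, bcQuotMap_tmul, BC.lift_tmul, map_mul, smul_eq_mul, Submodule.mkQ_apply,
        Submodule.liftQ_apply]
      rfl
  rw [this, hz, map_zero]

variable {T L : Submodule (WittVector p S) P} (h : IsCompl T L)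

/-- The base change of the projection to `T` along `L`. -/
def projT : BC Wf P →ₗ[WittVector p R] BC Wf P := BC.map Wf (T.projection L h)

theorem projT_add_projT (z : BC Wf P) : projT f h z + projT f h.symm z = z := by
  induction z using BC.induction_on with
  | zero => simp
  | add a b ha hb => rw [map_add, map_add, add_add_add_comm, ha, hb]
  | tmul w x =>
    rw [projT, projT, BC.map_tmul, BC.map_tmul, ← BC.tmul_add, Submodule.projection_add_projection_eq_self]

theorem projT_projT_symm (z : BC Wf P) : projT f h (projT f h.symm z) = 0 := by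
  induction z using BC.induction_on with
  | zero => simp
  | add a b ha hb => rw [map_add, map_add, ha, hb, add_zero]
  | tmul w x =>
    rw [projT, projT, BC.map_tmul, BC.map_tmul,
      (Submodule.projection_apply_eq_zero_iff h).2 (Submodule.projection_apply_mem h.symm x), BC.tmul_zero]

theorem isCompl_range_projT : IsCompl (LinearMap.range (projT f h)) (LinearMap.range (projT f h.symm)) := by
  refine IsCompl.of_eq ?_ (eq_top_iff.2 fun z _ => ?_)
  · rw [eq_bot_iff]
    rintro x ⟨⟨a, rfl⟩, ⟨b, hb⟩⟩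
    have h1 : projT f h (projT f h a) = projT f h a := by
      conv_rhs => rw [← projT_add_projT f h a, map_add, projT_projT_symm, add_zero]
    rw [Submodule.mem_bot, ← h1]
    conv_lhs => rw [show projT f h a = projT f h.symm b from hb.symm, projT_projT_symm]
  · exact Submodule.mem_sup.2 ⟨_, ⟨z, rfl⟩, _, ⟨z, rfl⟩, projT_add_projT f h z⟩

theorem projection_range_projT (z : BC Wf P) :
    (LinearMap.range (projT f h)).projection (LinearMap.range (projT f h.symm)) (isCompl_range_projT f h) z =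
      projT f h z := by
  conv_lhs => rw [← projT_add_projT f h z, map_add]
  rw [Submodule.projection_apply_of_mem_left _ (show projT f h z ∈ LinearMap.range (projT f h) from ⟨z, rfl⟩),
    (Submodule.projection_apply_eq_zero_iff _).2 (show projT f h.symm z ∈ LinearMap.range (projT f h.symm) from ⟨z, rfl⟩),
    add_zero]

/-- The kernel defining the base change of `Q`. -/
theorem ker_bcQuotMap [Module.Finite (WittVector p S) P] [Module.Projective (WittVector p S) P]
    {Q : Submodule (WittVector p S) P} (hQ : Q = L ⊔ IV p S • T) :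
    LinearMap.ker (bcQuotMap f Q) =
      LinearMap.range (projT f h.symm) ⊔ IV p R • LinearMap.range (projT f h) := by
  obtain ⟨t, e, φ, he, hφL, hφ⟩ := exists_coords h
  refine le_antisymm (fun z hz => ?_) (sup_le ?_ ?_)
  · rw [← projT_add_projT f h z, add_comm]
    refine Submodule.add_mem_sup ⟨z, rfl⟩ ?_
    have hexp : ∀ z, projT f h z = ∑ i, bcFun Wf (φ i) z • BC.tmul Wf 1 (e i) := by
      intro z
      induction z using BC.induction_on with
      | zero => simp
      | add a b ha hb => simp only [map_add, ha, hb, add_smul, Finset.sum_add_distrib]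
      | tmul w x =>
        rw [projT, BC.map_tmul, hφ, BC.tmul_eq_smul_tmul_one Wf w, ← BC.ι_apply, map_sum,
          Finset.smul_sum]
        refine Finset.sum_congr rfl fun i _ => ?_
        rw [LinearMap.map_smulₛₗ, BC.ι_apply, bcFun_tmul, smul_smul]
    rw [hexp]
    refine Submodule.sum_mem _ fun i _ => Submodule.smul_mem_smul ?_ ⟨BC.tmul Wf 1 (e i), ?_⟩
    · rw [IV_eq_ker, RingHom.mem_ker]
      exact constantCoeff_bcFun_eq_zero f Q (φ i)
        (fun y hy => (mem_sup_iff h φ e he hφ hφL y).1 (hQ ▸ hy) i) hz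
    · rw [projT, BC.map_tmul, Submodule.projection_apply_left h ⟨_, he i⟩]
  · rintro _ ⟨z, rfl⟩
    rw [LinearMap.mem_ker]
    induction z using BC.induction_on with
    | zero => simp
    | add a b ha hb => rw [map_add, map_add, ha, hb, add_zero]
    | tmul w x =>
      rw [projT, BC.map_tmul, bcQuotMap_tmul, Submodule.mkQ_apply, (Submodule.Quotient.mk_eq_zero Q).2
        (hQ ▸ Submodule.mem_sup_left (Submodule.projection_apply_mem h.symm x)), BC.tmul_zero]
  · refine Submodule.smul_le.2 fun r hr x _ => ?_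
    rw [IV_eq_ker, RingHom.mem_ker] at hr
    rw [LinearMap.mem_ker, LinearMap.map_smulₛₗ, hr, zero_smul]

/-- Existence of the base change. -/
theorem exists_baseChange (D : Display3n p S P) :
    ∃ DR : Display3n p R (BC Wf P), IsDispBaseChange f D DR := by
  have := D.finite
  have := D.projective
  obtain ⟨L, T, hLT, hQ⟩ := D.exists_normal
  have hL : L ≤ D.Q := hQ ▸ le_sup_left
  obtain ⟨φ, hφL, hφT, hφs⟩ := exists_phi D hLT.symm hL
  have hfin : Module.Finite (WittVector p R) (BC Wf P) := by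
    obtain ⟨s, hs⟩ := Module.Finite.fg_top (R := WittVector p S) (M := P)
    classical
    refine ⟨⟨s.image fun x => BC.tmul Wf 1 x, ?_⟩⟩
    rw [Finset.coe_image]
    exact bc_span_eq_top f hs
  have hproj : Module.Projective (WittVector p R) (BC Wf P) := by
    obtain ⟨t, e, c, hc⟩ := exists_coords_top (A := WittVector p S) (P := P)
    refine Module.Projective.of_split (M := Fin t → WittVector p R)
      (LinearMap.pi fun i => bcFun Wf (c i)) (Fintype.linearCombination _ fun i => BC.tmul Wf 1 (e i)) ?_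
    ext z
    simp only [LinearMap.comp_apply, Fintype.linearCombination_apply, LinearMap.pi_apply, LinearMap.id_apply]
    exact (bc_expand Wf hc z).symm
  have hspan : Submodule.span (WittVector p R) (Set.range (bcEnd f φ)) = ⊤ := by
    rw [eq_top_iff, ← bc_span_eq_top f (hφs hQ), Submodule.span_le]
    rintro _ ⟨_, ⟨x, rfl⟩, rfl⟩
    exact Submodule.subset_span ⟨BC.tmul Wf 1 x, by rw [bcEnd_tmul, map_one]⟩
  obtain ⟨DR, hRQ, hRF, hRV⟩ := exists_display_of_normal (isCompl_range_projT f hLT.symm) (bcEnd f φ) hspan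
  have hF : ∀ (w : WittVector p R) (x : P),
      DR.F (BC.tmul Wf w x) = BC.tmul Wf (WittVector.frobenius w) (D.F x) := by
    intro w x
    rw [hRF, projection_range_projT, projection_range_projT, projT, projT, BC.map_tmul, BC.map_tmul, bcEnd_tmul, bcEnd_tmul,
      hφL _ (Submodule.projection_apply_mem hLT x), hφT _ (Submodule.projection_apply_mem hLT.symm x),
      BC.smul_tmul, ← map_natCast Wf p, mul_comm, BC.tmul_mul_apply, ← BC.tmul_add]
    congr 1
    rw [← F_eq_p_smul_Vinv, ← map_add, Submodule.projection_add_projection_eq_self]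
  have hQR : DR.Q = LinearMap.ker (bcQuotMap f D.Q) := by
    rw [hRQ, ker_bcQuotMap f hLT.symm hQ]
  refine ⟨DR, hQR, hF, fun w y hy => ?_, fun w x hx => ?_⟩
  · have hmem : ∀ y : D.Q, BC.tmul Wf w (y : P) ∈ DR.Q := fun y => by
      rw [hQR, LinearMap.mem_ker, bcQuotMap_tmul, Submodule.mkQ_apply, (Submodule.Quotient.mk_eq_zero _).2 y.2,
        BC.tmul_zero]
    let g : D.Q →+ BC Wf P := AddMonoidHom.mk' (fun y => DR.Vinv ⟨_, hmem y⟩) fun a b => by
      rw [← map_add]
      exact congrArg DR.Vinv (Subtype.ext (BC.tmul_add _ _ _ _))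
    let g' : D.Q →+ BC Wf P := AddMonoidHom.mk' (fun y => BC.tmul Wf (WittVector.frobenius w) (D.Vinv y)) fun a b => by
      rw [map_add, BC.tmul_add]
    refine DFunLike.congr_fun (addHom_ext D.Q hQ g g' (fun l hl hq => ?_) (fun u x hxT hq => ?_)) y
    · show DR.Vinv ⟨BC.tmul Wf w l, _⟩ = BC.tmul Wf (WittVector.frobenius w) (D.Vinv ⟨l, hq⟩)
      rw [hRV _ ⟨BC.tmul Wf w l, by rw [projT, BC.map_tmul, Submodule.projection_apply_left _ ⟨l, hl⟩]⟩,
        bcEnd_tmul, hφL l hl]
    · show DR.Vinv ⟨BC.tmul Wf w (WittVector.verschiebung u • x), _⟩ =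
        BC.tmul Wf (WittVector.frobenius w) (D.Vinv ⟨_, hq⟩)
      rw [D.Vinv_verschiebung_smul u x]
      conv_rhs => rw [← BC.tmul_mul_apply]
      have e1 : BC.tmul Wf w (WittVector.verschiebung u • x) =
          WittVector.verschiebung (WittVector.frobenius w * Wf u) • BC.tmul Wf 1 x := by
        rw [verschiebung_frobenius_mul, BC.smul_tmul, mul_one, ← BC.tmul_mul_apply, WittVector.map_verschiebung]
      rw [show (⟨_, hmem ⟨_, hq⟩⟩ : DR.Q) = ⟨_, DR.IV_smul_le (Submodule.smul_mem_smul
        (verschiebung_mem_IV p R (WittVector.frobenius w * Wf u)) (Submodule.mem_top (x := BC.tmul Wf 1 x)))⟩ from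
          Subtype.ext e1, DR.Vinv_verschiebung_smul, hF, map_one, BC.smul_tmul, mul_one]
  · have e1 : BC.tmul Wf (WittVector.verschiebung w) x = WittVector.verschiebung w • BC.tmul Wf 1 x := by
      rw [BC.smul_tmul, mul_one]
    rw [show (⟨_, hx⟩ : DR.Q) = ⟨_, DR.IV_smul_le (Submodule.smul_mem_smul
        (verschiebung_mem_IV p R w) (Submodule.mem_top (x := BC.tmul Wf 1 x)))⟩ from Subtype.ext e1,
      DR.Vinv_verschiebung_smul, hF, map_one, BC.smul_tmul, mul_one]

variable {f} in
theorem tmul_mem_Q {D : Display3n p S P} {DR : Display3n p R (BC Wf P)} (hDR : IsDispBaseChange f D DR)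
    (w : WittVector p R) {y : P} (hy : y ∈ D.Q) : BC.tmul Wf w y ∈ DR.Q := by
  rw [hDR.Q_eq, LinearMap.mem_ker, bcQuotMap_tmul, Submodule.mkQ_apply, (Submodule.Quotient.mk_eq_zero _).2 hy,
    BC.tmul_zero]

variable {f} in
/-- A semilinear map on the base-changed `Q` is determined by its values on the standard generators. -/
theorem baseChange_ext {D : Display3n p S P} {DR : Display3n p R (BC Wf P)} (hDR : IsDispBaseChange f D DR)
    {N : Type w} [AddCommGroup N] (g g' : DR.Q →+ N)
    (h₁ : ∀ (w : WittVector p R) (y : D.Q) (hq : BC.tmul Wf w (y : P) ∈ DR.Q), g ⟨_, hq⟩ = g' ⟨_, hq⟩)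
    (h₂ : ∀ (w : WittVector p R) (x : P) (hq : BC.tmul Wf (WittVector.verschiebung w) x ∈ DR.Q),
      g ⟨_, hq⟩ = g' ⟨_, hq⟩) : g = g' := by
  have := D.finite
  have := D.projective
  obtain ⟨L, T, hLT, hQ⟩ := D.exists_normal
  refine addHom_ext DR.Q (hDR.Q_eq.trans (ker_bcQuotMap f hLT.symm hQ)) g g' ?_ ?_
  · rintro _ ⟨z, rfl⟩
    induction z using BC.induction_on with
    | zero =>
      intro hq
      rw [show (⟨_, hq⟩ : DR.Q) = 0 from Subtype.ext (map_zero _), map_zero, map_zero]
    | tmul w x =>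
      intro hq
      have e : projT f hLT.symm.symm (BC.tmul Wf w x) = BC.tmul Wf w (L.projection T hLT x) := BC.map_tmul _ _ _ _
      have hy : L.projection T hLT x ∈ D.Q := hQ ▸ Submodule.mem_sup_left (Submodule.projection_apply_mem hLT x)
      rw [show (⟨_, hq⟩ : DR.Q) = ⟨_, tmul_mem_Q hDR w hy⟩ from Subtype.ext e]
      exact h₁ w ⟨_, hy⟩ _
    | add a b ha hb =>
      intro hq
      have hm : ∀ c, projT f hLT.symm.symm c ∈ DR.Q := fun c =>
        (hDR.Q_eq.trans (ker_bcQuotMap f hLT.symm hQ)).ge (Submodule.mem_sup_left ⟨c, rfl⟩)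
      rw [show (⟨_, hq⟩ : DR.Q) = ⟨_, hm a⟩ + ⟨_, hm b⟩ from Subtype.ext (map_add _ a b), map_add, map_add, ha, hb]
  · intro u z hz
    clear hz
    induction z using BC.induction_on with
    | zero =>
      intro hq
      rw [show (⟨_, hq⟩ : DR.Q) = 0 from Subtype.ext (smul_zero _), map_zero, map_zero]
    | tmul w x =>
      intro hq
      have e : WittVector.verschiebung u • BC.tmul Wf w x =
          BC.tmul Wf (WittVector.verschiebung (u * WittVector.frobenius w)) x := by
        rw [BC.smul_tmul, WittVector.verschiebung_mul_frobenius]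
      have hq' : BC.tmul Wf (WittVector.verschiebung (u * WittVector.frobenius w)) x ∈ DR.Q := by
        rw [← e]; exact hq
      rw [show (⟨_, hq⟩ : DR.Q) = ⟨_, hq'⟩ from Subtype.ext e]
      exact h₂ _ x _
    | add a b ha hb =>
      intro hq
      have hm : ∀ c : BC Wf P, WittVector.verschiebung u • c ∈ DR.Q := fun c =>
        DR.IV_smul_le (Submodule.smul_mem_smul (verschiebung_mem_IV p R u) (Submodule.mem_top (x := c)))
      rw [show (⟨_, hq⟩ : DR.Q) = ⟨_, hm a⟩ + ⟨_, hm b⟩ from Subtype.ext (smul_add _ a b), map_add, map_add, ha, hb]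

variable {f} in
theorem baseChange_unique {D : Display3n p S P} {DR DR' : Display3n p R (BC Wf P)}
    (h : IsDispBaseChange f D DR) (h' : IsDispBaseChange f D DR') : DR' = DR := by
  refine display_ext (h'.Q_eq.trans h.Q_eq.symm) fun y hy hy' => ?_
  have hle : ∀ z : DR'.Q, (z : BC Wf P) ∈ DR.Q := fun z => h.Q_eq.symm ▸ h'.Q_eq ▸ z.2
  let g' : DR'.Q →+ BC Wf P := AddMonoidHom.mk' (fun z => DR.Vinv ⟨z, hle z⟩) fun a b => by
    rw [← map_add]
    rfl
  refine DFunLike.congr_fun (baseChange_ext h' DR'.Vinv.toAddMonoidHom g' (fun w y hq => ?_) (fun w x hq => ?_)) ⟨y, hy⟩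
  · exact (h'.Vinv_tmul w y hq).trans (h.Vinv_tmul w y _).symm
  · exact (h'.Vinv_verschiebung_tmul w x hq).trans (h.Vinv_verschiebung_tmul w x _).symm

/-- `u ⊗ y ↦ f u ⊗ (1 ⊗ y)`. -/
def theta : BC σS P →ₛₗ[Wf] BC σR (BC Wf P) where
  toFun u := BC.lift ((RingHom.comp σR Wf))
    ({ toFun := fun x => BC.ι σR (BC Wf P) (BC.ι Wf P x)
       map_add' := fun x y => by rw [map_add, map_add]
       map_smul' := fun c x => by rw [LinearMap.map_smulₛₗ, LinearMap.map_smulₛₗ, RingHom.comp_apply] } :
      P →ₛₗ[(RingHom.comp σR Wf)] BC σR (BC Wf P))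
    (BC.castHom (frobenius_comp_map f).symm (BC.push σS Wf u))
  map_add' a b := by simp only [map_add]
  map_smul' c z := by simp only [LinearMap.map_smulₛₗ, RingHom.id_apply]

theorem theta_tmul (u : WittVector p S) (y : P) :
    theta f (BC.tmul σS u y) = BC.tmul σR (Wf u) (BC.tmul Wf 1 y) := by
  show BC.lift ((RingHom.comp σR Wf)) _ (BC.castHom (frobenius_comp_map f).symm (BC.push σS Wf (BC.tmul σS u y))) = _
  rw [BC.push_tmul, BC.castHom_tmul, BC.lift_tmul, LinearMap.coe_mk, AddHom.coe_mk, BC.ι_apply, BC.smul_tmul,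
    mul_one, BC.ι_apply]

variable {f} in
/-- The operator `V♯` of a base change. -/
theorem isVSharp_baseChange {D : Display3n p S P} {DR : Display3n p R (BC Wf P)} (hDR : IsDispBaseChange f D DR)
    {Vs : P →ₗ[WittVector p S] BC σS P} (hVs : IsVSharp D Vs) :
    IsVSharp DR (BC.lift Wf ((theta f).comp Vs)) := by
  have h1 : ∀ x, Vs (D.F x) = BC.tmul σS (p : WittVector p S) x := fun x => by
    have := hVs.app_smul_F 1 x
    rwa [one_smul, BC.smul_tmul, mul_one] at this
  have h2 : ∀ y : D.Q, Vs (D.Vinv y) = BC.tmul σS 1 (y : P) := fun y => by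
    have := hVs.app_smul_Vinv 1 y
    rwa [one_smul] at this
  refine ⟨fun w z => ?_, fun w y => ?_⟩
  · rw [map_smul]
    induction z using BC.induction_on with
    | zero => simp
    | add a b ha hb => simp only [map_add, smul_add, ha, hb, BC.tmul_add]
    | tmul v x =>
      rw [hDR.F_tmul, BC.lift_tmul, LinearMap.comp_apply, h1, theta_tmul, map_natCast, BC.smul_tmul,
        BC.smul_tmul, BC.smul_tmul, show BC.tmul Wf v x = v • BC.tmul Wf 1 x by rw [BC.smul_tmul, mul_one],
        ← BC.tmul_mul_apply]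
      congr 1
      ring
  · rw [map_smul]
    let g : DR.Q →+ BC σR (BC Wf P) := AddMonoidHom.mk'
      (fun y => BC.lift Wf ((theta f).comp Vs) (DR.Vinv y)) fun a b => by rw [map_add, map_add]
    let g' : DR.Q →+ BC σR (BC Wf P) := AddMonoidHom.mk'
      (fun y => BC.tmul σR 1 (y : BC Wf P)) fun a b => by rw [Submodule.coe_add, BC.tmul_add]
    have hgg : g = g' := by
      refine baseChange_ext hDR g g' (fun v y hq => ?_) (fun v x hq => ?_)
      · show BC.lift Wf _ (DR.Vinv ⟨_, hq⟩) = BC.tmul σR 1 (BC.tmul Wf v (y : P))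
        rw [hDR.Vinv_tmul, BC.lift_tmul, LinearMap.comp_apply, h2, theta_tmul, map_one, BC.smul_tmul, mul_one,
          show BC.tmul Wf v (y : P) = v • BC.tmul Wf 1 (y : P) by rw [BC.smul_tmul, mul_one], ← BC.tmul_apply_eq]
      · show BC.lift Wf _ (DR.Vinv ⟨_, hq⟩) = BC.tmul σR 1 (BC.tmul Wf (WittVector.verschiebung v) x)
        rw [hDR.Vinv_verschiebung_tmul, BC.lift_tmul, LinearMap.comp_apply, h1, theta_tmul, map_natCast, BC.smul_tmul,
          show BC.tmul Wf (WittVector.verschiebung v) x = WittVector.verschiebung v • BC.tmul Wf 1 x by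
            rw [BC.smul_tmul, mul_one], ← BC.tmul_apply_eq, frobenius_verschiebung', mul_comm]
    rw [show BC.lift Wf ((theta f).comp Vs) (DR.Vinv y) = BC.tmul σR 1 (y : BC Wf P) from DFunLike.congr_fun hgg y,
      BC.smul_tmul, mul_one]

end Maps

end Groth.Agent.Disp23
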