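import Groth.Agent.Lib.Disp23.Normal
import Groth.Prelude.Def_Disp2
import Mathlib.RingTheory.WittVector.Domain
import Mathlib.LinearAlgebra.Projection
import Mathlib.Algebra.Module.Projective

/-!
# 3n-displays from normal data
-/

universe u v w

open W4c1extbt610

noncomputable section

namespace Groth.Agent.Disp23

variable {p : ℕ} [Fact p.Prime] {R : Type u} [CommRing R]
variable {P : Type v} [AddCommGroup P] [Module (WittVector p R) P]

local notation "W" => WittVector p R
local notation "σ" => (WittVector.frobenius : WittVector p R →+* WittVector p R)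

/-- The inverse of the Verschiebung on `I`. -/
def vshift (x : W) : W := x.shift 1

theorem verschiebung_vshift {x : W} (hx : x ∈ IV p R) : WittVector.verschiebung (vshift x) = x := by
  rw [IV_eq_ker, RingHom.mem_ker] at hx
  exact (WittVector.eq_iterate_verschiebung (x := x) (n := 1) (fun i hi => by interval_cases i; exact hx)).symm

theorem exists_verschiebung_eq {x : W} (hx : x ∈ IV p R) : ∃ u : W, WittVector.verschiebung u = x :=
  ⟨vshift x, verschiebung_vshift hx⟩

theorem vshift_verschiebung (u : W) : vshift (WittVector.verschiebung u) = u :=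
  WittVector.verschiebung_injective p R (verschiebung_vshift (verschiebung_mem_IV p R u))

theorem vshift_zero : vshift (0 : W) = 0 := by
  conv_lhs => rw [← map_zero (WittVector.verschiebung (p := p) (R := R))]
  exact vshift_verschiebung 0

theorem vshift_add {x y : W} (hx : x ∈ IV p R) (hy : y ∈ IV p R) : vshift (x + y) = vshift x + vshift y :=
  WittVector.verschiebung_injective p R (by
    rw [verschiebung_vshift (add_mem hx hy), map_add, verschiebung_vshift hx, verschiebung_vshift hy])

theorem verschiebung_frobenius_mul (r u : W) :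
    WittVector.verschiebung (WittVector.frobenius r * u) = r * WittVector.verschiebung u := by
  rw [mul_comm, WittVector.verschiebung_mul_frobenius, mul_comm]

theorem vshift_mul (r : W) {x : W} (hx : x ∈ IV p R) : vshift (r * x) = WittVector.frobenius r * vshift x :=
  WittVector.verschiebung_injective p R (by
    rw [verschiebung_vshift (Ideal.mul_mem_left _ r hx), verschiebung_frobenius_mul, verschiebung_vshift hx])

theorem frobenius_verschiebung' (u : W) : WittVector.frobenius (WittVector.verschiebung u) = (p : W) * u := by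
  rw [WittVector.frobenius_verschiebung, mul_comm]

/-- Coordinates for a direct summand of a finite projective module. -/
theorem exists_coords [Module.Finite W P] [Module.Projective W P] {T L : Submodule W P} (h : IsCompl T L) :
    ∃ (t : ℕ) (e : Fin t → P) (f : Fin t → P →ₗ[W] W), (∀ i, e i ∈ T) ∧
      (∀ i, ∀ l ∈ L, f i l = 0) ∧ ∀ x, T.projection L h x = ∑ i, f i x • e i := by
  classical
  obtain ⟨t, π, hπ⟩ := Module.Finite.exists_fin' W P
  obtain ⟨s, hs⟩ := Module.projective_lifting_property π LinearMap.id hπ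
  refine ⟨t, fun i => T.projection L h (π (Pi.single i 1)),
    fun i => (LinearMap.proj i).comp (s.comp (T.projection L h)), fun i => Submodule.projection_apply_mem h _,
    fun i l hl => ?_, fun x => ?_⟩
  · show s (T.projection L h l) i = 0
    rw [(Submodule.projection_apply_eq_zero_iff h).2 hl, map_zero, Pi.zero_apply]
  · simp only [LinearMap.comp_apply, LinearMap.proj_apply, ← map_smul, ← map_sum]
    rw [← pi_eq_sum_univ' (s (T.projection L h x)), show π (s (T.projection L h x)) = T.projection L h x from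
      LinearMap.congr_fun hs _, Submodule.projection_apply_left h ⟨_, Submodule.projection_apply_mem h x⟩]

/-- Membership in `L ⊔ I T`. -/
theorem mem_sup_iff {t : ℕ} {T L : Submodule W P} (h : IsCompl T L) (f : Fin t → P →ₗ[W] W) (e : Fin t → P)
    (he : ∀ i, e i ∈ T) (hf : ∀ x, T.projection L h x = ∑ i, f i x • e i) (hfT : ∀ i, ∀ l ∈ L, f i l = 0) (y : P) :
    y ∈ L ⊔ IV p R • T ↔ ∀ i, f i y ∈ IV p R := by
  constructor
  · intro hy i
    obtain ⟨l, hl, z, hz, rfl⟩ := Submodule.mem_sup.1 hy
    rw [map_add, hfT i l hl, zero_add]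
    refine Submodule.smul_induction_on hz (fun r hr x _ => ?_) fun a b ha hb => ?_
    · rw [map_smul, smul_eq_mul]
      exact Ideal.mul_mem_right _ _ hr
    · rw [map_add]
      exact add_mem ha hb
  · intro hy
    rw [← Submodule.projection_add_projection_eq_self h y, add_comm]
    exact Submodule.add_mem_sup (Submodule.projection_apply_mem h.symm y)
      (hf y ▸ Submodule.sum_mem _ fun i _ => Submodule.smul_mem_smul (hy i) (he i))

/-- The data of `V⁻¹ ⊕ F` in a normal decomposition gives a 3n-display. -/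
theorem exists_display_of_normal [Module.Finite W P] [Module.Projective W P] {T L : Submodule W P} (h : IsCompl T L)
    (φ : P →ₛₗ[σ] P) (hφ : Submodule.span W (Set.range φ) = ⊤) :
    ∃ D : Display3n p R P, D.Q = L ⊔ IV p R • T ∧
      (∀ x, D.F x = (p : W) • φ (L.projection T h.symm x) + φ (T.projection L h x)) ∧
      ∀ (l : P) (hl : l ∈ L) (hq : l ∈ D.Q), D.Vinv ⟨l, hq⟩ = φ l := by
  obtain ⟨t, e, f, he, hfL, hf⟩ := exists_coords h
  have hmem : ∀ {y : P}, y ∈ L ⊔ IV p R • T → ∀ i, f i y ∈ IV p R := fun hy =>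
    (mem_sup_iff h f e he hf hfL _).1 hy
  let Q := L ⊔ IV p R • T
  let Vi : Q →ₛₗ[σ] P :=
    { toFun := fun y => φ (L.projection T h.symm (y : P)) + ∑ i, vshift (f i (y : P)) • φ (e i)
      map_add' := fun x y => by
        simp only [Submodule.coe_add, map_add, vshift_add (hmem x.2 _) (hmem y.2 _), add_smul,
          Finset.sum_add_distrib]
        abel
      map_smul' := fun r y => by
        simp only [Submodule.coe_smul, map_smul, map_smulₛₗ, smul_eq_mul, vshift_mul r (hmem y.2 _), smul_add,
          Finset.smul_sum, smul_smul] }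
  let F : P →ₛₗ[σ] P :=
    ((p : W) • φ).comp (L.projection T h.symm) + φ.comp (T.projection L h)
  have hIV : IV p R • (⊤ : Submodule W P) ≤ Q := by
    rw [← h.sup_eq_top, Submodule.smul_sup]
    exact sup_le le_sup_right (Submodule.smul_le_right.trans le_sup_left)
  have hFV : ∀ (u : W) (x : P) (hx : WittVector.verschiebung u • x ∈ Q), Vi ⟨_, hx⟩ = u • F x := by
    intro u x hx
    show φ (L.projection T h.symm (WittVector.verschiebung u • x)) +
        ∑ i, vshift (f i (WittVector.verschiebung u • x)) • φ (e i) =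
      u • ((p : W) • φ (L.projection T h.symm x) + φ (T.projection L h x))
    rw [map_smul, φ.map_smulₛₗ, frobenius_verschiebung', smul_add, smul_smul, mul_comm u (p : W), hf x, map_sum,
      Finset.smul_sum]
    congr 1
    refine Finset.sum_congr rfl fun i _ => ?_
    rw [map_smul, φ.map_smulₛₗ, smul_smul, smul_eq_mul, mul_comm (WittVector.verschiebung u),
      vshift_mul _ (verschiebung_mem_IV p R u), vshift_verschiebung, mul_comm]
  have hVl : ∀ (l : P) (hl : l ∈ L) (hq : l ∈ Q), Vi ⟨l, hq⟩ = φ l := by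
    intro l hl hq
    show φ (L.projection T h.symm l) + ∑ i, vshift (f i l) • φ (e i) = φ l
    rw [Submodule.projection_apply_left h.symm ⟨l, hl⟩]
    simp only [hfL _ l hl, vshift_zero, zero_smul, Finset.sum_const_zero, add_zero]
  refine ⟨{ Q := Q, F := F, Vinv := Vi, finite := inferInstance, projective := inferInstance,
            IV_smul_le := hIV, exists_normal := ⟨L, T, h.symm, rfl⟩
            span_range_Vinv := ?_
            Vinv_verschiebung_smul := fun w x => hFV w x _ }, rfl, fun x => rfl, hVl⟩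
  rw [eq_top_iff, ← hφ, Submodule.span_le]
  rintro _ ⟨x, rfl⟩
  rw [← Submodule.projection_add_projection_eq_self h.symm x, map_add]
  refine add_mem ?_ ?_
  · exact Submodule.subset_span
      ⟨⟨_, Submodule.mem_sup_left (Submodule.projection_apply_mem h.symm x)⟩,
        hVl _ (Submodule.projection_apply_mem h.symm x) _⟩
  · refine Submodule.subset_span ⟨⟨WittVector.verschiebung 1 • T.projection L h x,
      hIV (Submodule.smul_mem_smul (verschiebung_mem_IV p R 1) Submodule.mem_top)⟩, ?_⟩
    rw [hFV 1 _ _, one_smul]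
    show (p : W) • φ (L.projection T h.symm (T.projection L h x)) + φ (T.projection L h (T.projection L h x)) = _
    rw [(Submodule.projection_apply_eq_zero_iff h.symm).2 (Submodule.projection_apply_mem h x), map_zero, smul_zero,
      zero_add, Submodule.projection_apply_left h ⟨_, Submodule.projection_apply_mem h x⟩]

/-- In a 3n-display `F x = V⁻¹ (V 1 · x)`, so `F` is `p V⁻¹` on `Q`. -/
theorem F_eq_p_smul_Vinv (D : Display3n p R P) (y : D.Q) : D.F (y : P) = (p : W) • D.Vinv y := by
  have h := D.Vinv_verschiebung_smul 1 (y : P)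
  rw [one_smul] at h
  rw [← h, show (⟨WittVector.verschiebung 1 • (y : P), _⟩ : D.Q) = WittVector.verschiebung (1 : W) • y from rfl,
    map_smulₛₗ, frobenius_verschiebung', mul_one]

/-- `V⁻¹` on `L ⊔ I T` is determined by `V⁻¹|L` and `F|T`. -/
theorem Vinv_ext {N : Type w} [AddCommGroup N] [Module W N] (D : Display3n p R P) {T L : Submodule W P}
    (hQ : D.Q = L ⊔ IV p R • T) (g g' : D.Q →ₛₗ[σ] N)
    (h₁ : ∀ (l : P) (_ : l ∈ L) (hq : l ∈ D.Q), g ⟨l, hq⟩ = g' ⟨l, hq⟩)
    (h₂ : ∀ (u : W) (x : P) (_ : x ∈ T) (hq : WittVector.verschiebung u • x ∈ D.Q), g ⟨_, hq⟩ = g' ⟨_, hq⟩) :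
    g = g' := by
  refine LinearMap.ext fun ⟨y, hy⟩ => ?_
  have hy' := hy
  rw [hQ, Submodule.mem_sup] at hy'
  obtain ⟨l, hl, z, hz, rfl⟩ := hy'
  have hlQ : l ∈ D.Q := hQ ▸ Submodule.mem_sup_left hl
  obtain ⟨hzQ, hgz⟩ : ∃ hq : z ∈ D.Q, g ⟨z, hq⟩ = g' ⟨z, hq⟩ := by
    refine Submodule.smul_induction_on (p := fun z => ∃ hq : z ∈ D.Q, g ⟨z, hq⟩ = g' ⟨z, hq⟩) hz
      (fun r hr x hx => ?_) (fun a b ⟨ha, ha'⟩ ⟨hb, hb'⟩ => ⟨add_mem ha hb, ?_⟩)
    · obtain ⟨u, rfl⟩ := exists_verschiebung_eq hr
      have hq : WittVector.verschiebung u • x ∈ D.Q :=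
        hQ ▸ Submodule.mem_sup_right (Submodule.smul_mem_smul (verschiebung_mem_IV p R u) hx)
      exact ⟨hq, h₂ u x hx hq⟩
    · rw [show (⟨a + b, add_mem ha hb⟩ : D.Q) = ⟨a, ha⟩ + ⟨b, hb⟩ from rfl, map_add, map_add, ha', hb']
  rw [show (⟨l + z, hy⟩ : D.Q) = ⟨l, hlQ⟩ + ⟨z, hzQ⟩ from rfl, map_add, map_add, h₁ l hl hlQ, hgz]

end Groth.Agent.Disp23
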