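import Groth.Agent.Lib.Disp23.BaseChange
import Mathlib.LinearAlgebra.ExteriorPower.Basis

/-!
# Exterior powers of 3n-displays with tangent module of rank one
-/

universe u v w

open W4c1extbt610

noncomputable section

namespace Groth.Agent.Disp23

section Alg

variable {A : Type u} [CommRing A] {P : Type v} [AddCommGroup P] [Module A P]

theorem projective_exteriorPower [Module.Finite A P] [Module.Projective A P] (r : ℕ) :
    Module.Projective A (⋀[A]^r P) := by
  obtain ⟨t, π, hπ⟩ := Module.Finite.exists_fin' A P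
  obtain ⟨s, hs⟩ := Module.projective_lifting_property π LinearMap.id hπ
  refine Module.Projective.of_split (M := ⋀[A]^r (Fin t → A)) (exteriorPower.map r s) (exteriorPower.map r π) ?_
  rw [← exteriorPower.map_comp, hs, exteriorPower.map_id]

/-- Restriction of scalars along an endomorphism, as a type synonym. -/
@[nolint unusedArguments]
def Twist (_g : A →+* A) (M : Type w) : Type w := M

instance (g : A →+* A) (M : Type w) [AddCommGroup M] : AddCommGroup (Twist g M) := inferInstanceAs (AddCommGroup M)

instance (g : A →+* A) (M : Type w) [AddCommGroup M] [Module A M] : Module A (Twist g M) := Module.compHom M g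

/-- The exterior power of a semilinear endomorphism. -/
theorem exists_semilinear_ext {g : A →+* A} (φ : P →ₛₗ[g] P) (r : ℕ) :
    ∃ Φ : ⋀[A]^r P →ₛₗ[g] ⋀[A]^r P, ∀ m : Fin r → P,
      Φ (exteriorPower.ιMulti A r m) = exteriorPower.ιMulti A r (fun i => φ (m i)) := by
  let al : P [⋀^Fin r]→ₗ[A] Twist g (⋀[A]^r P) :=
    { toFun := fun m => (exteriorPower.ιMulti A r (fun i => φ (m i)) : ⋀[A]^r P)
      map_update_add' := fun {_} m i x y => by
        show (exteriorPower.ιMulti A r (fun j => φ (Function.update m i (x + y) j)) : ⋀[A]^r P) =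
          exteriorPower.ιMulti A r (fun j => φ (Function.update m i x j)) +
            exteriorPower.ιMulti A r (fun j => φ (Function.update m i y j))
        simp only [Function.apply_update (fun _ => φ) m i, map_add, AlternatingMap.map_update_add]
      map_update_smul' := fun {_} m i c x => by
        show (exteriorPower.ιMulti A r (fun j => φ (Function.update m i (c • x) j)) : ⋀[A]^r P) =
          g c • exteriorPower.ιMulti A r (fun j => φ (Function.update m i x j))
        simp only [Function.apply_update (fun _ => φ) m i, LinearMap.map_smulₛₗ, AlternatingMap.map_update_smul]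
      map_eq_zero_of_eq' := fun m i j h hij =>
        (exteriorPower.ιMulti A r).map_eq_zero_of_eq (fun k => φ (m k)) (congrArg φ h) hij }
  let L := exteriorPower.alternatingMapLinearEquiv al
  exact ⟨{ toFun := fun x => L x, map_add' := fun x y => map_add L x y, map_smul' := fun c x => map_smul L c x },
    fun m => exteriorPower.alternatingMapLinearEquiv_apply_ιMulti al m⟩

variable {N : Type w} [AddCommGroup N] [Module A N] {r : ℕ}

/-- Expansion of an alternating map on vectors differing from `a` by multiples of one vector. -/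
theorem alternating_expand (g : P [⋀^Fin r]→ₗ[A] N) (a : Fin r → P) (c : Fin r → A) (v : P) :
    g (fun i => a i + c i • v) = g a + ∑ i, c i • g (Function.update a i v) := by
  classical
  let b : Finset (Fin r) → Fin r → P := fun F => F.piecewise (fun i => a i + c i • v) a
  have hb : ∀ F i, i ∉ F → b (insert i F) = Function.update (b F) i (a i + c i • v) := fun F i _ =>
    Finset.piecewise_insert _ _ _ _
  have hv : ∀ F i, i ∉ F → g (Function.update (b F) i v) = g (Function.update a i v) := by
    intro F i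
    induction F using Finset.induction_on with
    | empty => intro _; simp [b]
    | insert j F hj ih =>
      intro hi
      rw [Finset.mem_insert, not_or] at hi
      rw [hb F j hj, Function.update_comm (Ne.symm hi.1), g.map_update_add, g.map_update_smul]
      have h1 : g (Function.update (Function.update (b F) i v) j v) = 0 :=
        g.map_eq_zero_of_eq _ (by simp [hi.1]) hi.1
      have h2 : Function.update (Function.update (b F) i v) j (a j) = Function.update (b F) i v := by
        rw [Function.update_eq_self_iff, Function.update_of_ne (Ne.symm hi.1)]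
        simp [b, hj]
      rw [h1, h2, smul_zero, add_zero]
      exact ih hi.2
  suffices h : ∀ F, g (b F) = g a + ∑ i ∈ F, c i • g (Function.update a i v) by
    simpa [b] using h Finset.univ
  intro F
  induction F using Finset.induction_on with
  | empty => simp [b]
  | insert i F hi ih =>
    have h2 : Function.update (b F) i (a i) = b F := by
      rw [Function.update_eq_self_iff]
      simp [b, hi]
    rw [hb F i hi, g.map_update_add, g.map_update_smul, h2, ih, hv F i hi, Finset.sum_insert hi]
    abel

theorem semilinear_ext_of_eq_span {g : A →+* A} {Q : Submodule A P} {s : Set P} (hQ : Q = Submodule.span A s)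
    (f f' : Q →ₛₗ[g] N) (h : ∀ x ∈ s, ∀ hx : x ∈ Q, f ⟨x, hx⟩ = f' ⟨x, hx⟩) : f = f' := by
  refine LinearMap.ext fun ⟨x, hx⟩ => ?_
  have hx' := hx
  rw [hQ] at hx'
  suffices key : ∃ hx : x ∈ Q, f ⟨x, hx⟩ = f' ⟨x, hx⟩ from key.2
  refine Submodule.span_induction (p := fun x _ => ∃ hx : x ∈ Q, f ⟨x, hx⟩ = f' ⟨x, hx⟩) ?_ ?_ ?_ ?_ hx'
  · intro y hy
    exact ⟨hQ ▸ Submodule.subset_span hy, h y hy _⟩
  · exact ⟨Q.zero_mem, by rw [show (⟨0, Q.zero_mem⟩ : Q) = 0 from rfl, map_zero, map_zero]⟩
  · rintro a b _ _ ⟨ha, ha'⟩ ⟨hb, hb'⟩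
    exact ⟨add_mem ha hb, by
      rw [show (⟨a + b, add_mem ha hb⟩ : Q) = ⟨a, ha⟩ + ⟨b, hb⟩ from rfl, map_add, map_add, ha', hb']⟩
  · rintro c a _ ⟨ha, ha'⟩
    exact ⟨Q.smul_mem c ha, by
      rw [show (⟨c • a, Q.smul_mem c ha⟩ : Q) = c • (⟨a, ha⟩ : Q) from rfl, LinearMap.map_smulₛₗ,
        LinearMap.map_smulₛₗ, ha']⟩

end Alg

variable {p : ℕ} [Fact p.Prime] {R : Type u} [CommRing R]
variable {P : Type v} [AddCommGroup P] [Module (WittVector p R) P]

local notation "W" => WittVector p R
local notation "σ" => (WittVector.frobenius : WittVector p R →+* WittVector p R)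

variable {D : Display3n p R P} {L T : Submodule (WittVector p R) P}

/-- The `T`-coordinate. -/
theorem exists_coord (hLT : IsCompl L T) (hT : Nonempty (T ≃ₗ[W] W)) :
    ∃ (t₀ : P) (c : P →ₗ[W] W), t₀ ∈ T ∧ (∀ l ∈ L, c l = 0) ∧ c t₀ = 1 ∧
      ∀ x, x = L.projection T hLT x + c x • t₀ := by
  obtain ⟨e⟩ := hT
  refine ⟨(e.symm 1 : T), e.toLinearMap.comp (Submodule.projectionOnto T L hLT.symm), (e.symm 1).2,
    fun l hl => ?_, ?_, fun x => ?_⟩
  · rw [LinearMap.comp_apply, (Submodule.projectionOnto_apply_eq_zero_iff hLT.symm).2 hl, map_zero]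
  · rw [LinearMap.comp_apply, Submodule.projectionOnto_apply_left, LinearEquiv.coe_coe, LinearEquiv.apply_symm_apply]
  · rw [LinearMap.comp_apply, LinearEquiv.coe_coe, ← Submodule.coe_smul, ← map_smul, smul_eq_mul, mul_one,
      LinearEquiv.symm_apply_apply]
    exact (Submodule.projection_add_projection_eq_self hLT x).symm

theorem coord_mem_IV (hQ : D.Q = L ⊔ IV p R • T) {c : P →ₗ[W] W} (hc : ∀ l ∈ L, c l = 0) {q : P}
    (hq : q ∈ D.Q) : c q ∈ IV p R := by
  rw [hQ, Submodule.mem_sup] at hq
  obtain ⟨l, hl, z, hz, rfl⟩ := hq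
  rw [map_add, hc l hl, zero_add]
  refine Submodule.smul_induction_on hz (fun r hr x _ => ?_) fun a b ha hb => by rw [map_add]; exact add_mem ha hb
  rw [map_smul, smul_eq_mul]
  exact Ideal.mul_mem_right _ _ hr

/-- The projection to `⋀ L`. -/
def extProj (hLT : IsCompl L T) (r : ℕ) : ⋀[W]^r P →ₗ[W] ⋀[W]^r P :=
  exteriorPower.map r (L.projection T hLT)

theorem extProj_isIdempotentElem (hLT : IsCompl L T) (r : ℕ) :
    IsIdempotentElem (extProj (p := p) hLT r) := by
  rw [IsIdempotentElem, Module.End.mul_eq_comp, extProj, ← exteriorPower.map_comp]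
  congr 1
  exact LinearMap.ext fun x => Submodule.projection_apply_left hLT ⟨_, Submodule.projection_apply_mem hLT x⟩

theorem extProj_update_eq_zero (hLT : IsCompl L T) {r : ℕ} (a : Fin r → P) (i : Fin r) {v : P} (hv : v ∈ T) :
    extProj (p := p) hLT r (exteriorPower.ιMulti W r (Function.update a i v)) = 0 := by
  rw [extProj, exteriorPower.map_apply_ιMulti]
  refine (exteriorPower.ιMulti W r).map_coord_zero i ?_
  rw [Function.comp_apply, Function.update_self, (Submodule.projection_apply_eq_zero_iff hLT).2 hv]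

/-- The span of the wedges of elements of `Q`. -/
theorem span_wedge_eq (hLT : IsCompl L T) (hQ : D.Q = L ⊔ IV p R • T) {t₀ : P} {c : P →ₗ[W] W}
    (ht₀ : t₀ ∈ T) (hc : ∀ l ∈ L, c l = 0) (hx : ∀ x, x = L.projection T hLT x + c x • t₀) (r : ℕ) :
    Submodule.span W (Set.range fun q : Fin r → D.Q => exteriorPower.ιMulti W r (fun i => (q i : P))) =
      LinearMap.range (extProj (p := p) hLT r) ⊔ IV p R • LinearMap.ker (extProj (p := p) hLT r) := by
  have hexp : ∀ m : Fin r → P, exteriorPower.ιMulti W r m = exteriorPower.ιMulti W r (L.projection T hLT ∘ m) +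
      ∑ i, c (m i) • exteriorPower.ιMulti W r (Function.update (L.projection T hLT ∘ m) i t₀) := fun m => by
    rw [← alternating_expand (exteriorPower.ιMulti W r) (L.projection T hLT ∘ m) (fun i => c (m i)) t₀]
    congr 1
    funext i
    exact hx (m i)
  refine le_antisymm (Submodule.span_le.2 ?_) (sup_le ?_ ?_)
  · rintro _ ⟨q, rfl⟩
    show exteriorPower.ιMulti W r (fun i => (q i : P)) ∈ _
    rw [hexp]
    refine add_mem (Submodule.mem_sup_left ⟨exteriorPower.ιMulti W r (fun i => (q i : P)), ?_⟩)
      (Submodule.sum_mem _ fun i _ => Submodule.mem_sup_right (Submodule.smul_mem_smul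
        (coord_mem_IV hQ hc (q i).2) ?_))
    · rw [extProj, exteriorPower.map_apply_ιMulti]
    · exact extProj_update_eq_zero hLT _ i ht₀
  · rintro _ ⟨z, rfl⟩
    have hz : z ∈ Submodule.span W (Set.range (exteriorPower.ιMulti W r (M := P))) := by
      rw [exteriorPower.ιMulti_span]; exact Submodule.mem_top
    refine Submodule.span_induction (p := fun z _ => extProj (p := p) hLT r z ∈ _) ?_ ?_ ?_ ?_ hz
    · rintro _ ⟨m, rfl⟩
      rw [extProj, exteriorPower.map_apply_ιMulti]
      exact Submodule.subset_span ⟨fun i => ⟨L.projection T hLT (m i),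
        hQ ▸ Submodule.mem_sup_left (Submodule.projection_apply_mem hLT _)⟩, rfl⟩
    · rw [map_zero]; exact zero_mem _
    · intro a b _ _ ha hb; rw [map_add]; exact add_mem ha hb
    · intro a b _ hb; rw [map_smul]; exact Submodule.smul_mem _ _ hb
  · refine Submodule.smul_le.2 fun s hs x hxk => ?_
    rw [LinearMap.mem_ker] at hxk
    suffices h : ∀ y, s • (y - extProj (p := p) hLT r y) ∈
        Submodule.span W (Set.range fun q : Fin r → D.Q => exteriorPower.ιMulti W r (fun i => (q i : P))) by
      simpa [hxk] using h x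
    intro y
    have hy : y ∈ Submodule.span W (Set.range (exteriorPower.ιMulti W r (M := P))) := by
      rw [exteriorPower.ιMulti_span]; exact Submodule.mem_top
    refine Submodule.span_induction (p := fun y _ => s • (y - extProj (p := p) hLT r y) ∈ _) ?_ ?_ ?_ ?_ hy
    · rintro _ ⟨m, rfl⟩
      rw [extProj, exteriorPower.map_apply_ιMulti, hexp m, add_sub_cancel_left, Finset.smul_sum]
      refine Submodule.sum_mem _ fun i _ => ?_
      rw [smul_comm]
      refine Submodule.smul_mem _ _ ?_
      rw [← AlternatingMap.map_update_smul]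
      refine Submodule.subset_span ⟨Function.update
        (fun j => ⟨L.projection T hLT (m j), hQ ▸ Submodule.mem_sup_left (Submodule.projection_apply_mem hLT _)⟩) i
        ⟨s • t₀, D.IV_smul_le (Submodule.smul_mem_smul hs Submodule.mem_top)⟩, ?_⟩
      show exteriorPower.ιMulti W r _ = exteriorPower.ιMulti W r _
      congr 1
      funext j
      rcases eq_or_ne j i with rfl | hj
      · simp
      · simp [hj]
    · simp
    · intro a b _ _ ha hb
      rw [map_add, add_sub_add_comm, smul_add]
      exact add_mem ha hb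
    · intro a b _ hb
      rw [map_smul, ← smul_sub, smul_comm]
      exact Submodule.smul_mem _ _ hb

/-- Existence of the exterior power of a 3n-display. -/
theorem exists_extPow (hLT : IsCompl L T) (hQ : D.Q = L ⊔ IV p R • T) (hT : Nonempty (T ≃ₗ[W] W)) (r : ℕ) :
    ∃ E : Display3n p R (⋀[W]^r P), IsExtPow D r E ∧
      E.Q = LinearMap.range (extProj (p := p) hLT r) ⊔ IV p R • LinearMap.ker (extProj (p := p) hLT r) := by
  have := D.finite
  have := D.projective
  have := projective_exteriorPower (A := W) (P := P) r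
  obtain ⟨t₀, c, ht₀, hc, -, hx⟩ := exists_coord hLT hT
  have hL : L ≤ D.Q := hQ ▸ le_sup_left
  obtain ⟨φ, hφL, hφT, hφs⟩ := exists_phi D hLT.symm hL
  obtain ⟨Φ, hΦ⟩ := exists_semilinear_ext φ r
  have hspan : Submodule.span W (Set.range Φ) = ⊤ := by
    rw [eq_top_iff, ← exteriorPower.ιMulti_span_of_span W r P (hφs hQ), Submodule.span_le]
    rintro _ ⟨m, hm, rfl⟩
    have hm' : ∀ i, ∃ x, φ x = m i := fun i => hm ⟨i, rfl⟩
    choose x hx' using hm'
    exact Submodule.subset_span ⟨exteriorPower.ιMulti W r x, by rw [hΦ]; exact congrArg _ (funext hx')⟩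
  have hcompl : IsCompl (LinearMap.ker (extProj (p := p) hLT r)) (LinearMap.range (extProj (p := p) hLT r)) := by
    first
      | exact LinearMap.IsIdempotentElem.isCompl (extProj_isIdempotentElem hLT r)
      | exact (LinearMap.IsIdempotentElem.isCompl (extProj_isIdempotentElem hLT r)).symm
  obtain ⟨E, hEQ, hEF, hEV⟩ := exists_display_of_normal hcompl Φ hspan
  refine ⟨E, ⟨by rw [hEQ, span_wedge_eq hLT hQ ht₀ hc hx r], fun q hq => ?_⟩, hEQ⟩
  have hu : ∀ i, ∃ u : W, WittVector.verschiebung u = c (q i : P) := fun i =>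
    exists_verschiebung_eq (coord_mem_IV hQ hc (q i).2)
  choose u hu using hu
  let a : Fin r → P := fun i => L.projection T hLT (q i : P)
  have ha : ∀ i, a i ∈ L := fun i => Submodule.projection_apply_mem hLT _
  have hV : ∀ i, D.Vinv (q i) = φ (a i) + u i • φ t₀ := by
    intro i
    have hz : WittVector.verschiebung (u i) • t₀ ∈ D.Q :=
      D.IV_smul_le (Submodule.smul_mem_smul (verschiebung_mem_IV p R _) Submodule.mem_top)
    rw [show q i = ⟨a i, hL (ha i)⟩ + ⟨_, hz⟩ from Subtype.ext (by
      show (q i : P) = a i + WittVector.verschiebung (u i) • t₀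
      rw [hu]; exact hx _), map_add, hφL _ (ha i), hφT _ ht₀, D.Vinv_verschiebung_smul]
  have hRHS : exteriorPower.ιMulti W r (fun i => D.Vinv (q i)) = Φ (exteriorPower.ιMulti W r a) +
      ∑ i, u i • Φ (exteriorPower.ιMulti W r (Function.update a i t₀)) := by
    simp only [hV, hΦ]
    rw [alternating_expand]
    simp only [Function.apply_update (fun _ => φ) a]
  have haR : exteriorPower.ιMulti W r a ∈ LinearMap.range (extProj (p := p) hLT r) :=
    ⟨exteriorPower.ιMulti W r (fun i => (q i : P)), by rw [extProj, exteriorPower.map_apply_ιMulti]; rfl⟩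
  have haQ : exteriorPower.ιMulti W r a ∈ E.Q := hEQ ▸ Submodule.mem_sup_left haR
  have hiQ : ∀ i, WittVector.verschiebung (u i) • exteriorPower.ιMulti W r (Function.update a i t₀) ∈ E.Q := fun i =>
    E.IV_smul_le (Submodule.smul_mem_smul (verschiebung_mem_IV p R _) Submodule.mem_top)
  have hker : ∀ i, E.F (exteriorPower.ιMulti W r (Function.update a i t₀)) =
      Φ (exteriorPower.ιMulti W r (Function.update a i t₀)) := fun i => by
    have hk : exteriorPower.ιMulti W r (Function.update a i t₀) ∈ LinearMap.ker (extProj (p := p) hLT r) :=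
      extProj_update_eq_zero hLT a i ht₀
    rw [hEF, (Submodule.projection_apply_eq_zero_iff _).2 hk, map_zero, smul_zero, zero_add,
      Submodule.projection_apply_of_mem_left _ hk]
  rw [hRHS, show (⟨_, hq⟩ : E.Q) = ⟨_, haQ⟩ + ∑ i, ⟨_, hiQ i⟩ from Subtype.ext (by
    show exteriorPower.ιMulti W r (fun i => (q i : P)) = _
    rw [Submodule.coe_add, Submodule.coe_sum]
    show _ = exteriorPower.ιMulti W r a + ∑ i, WittVector.verschiebung (u i) • _
    rw [← alternating_expand]
    congr 1
    funext i
    rw [hu]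
    exact hx _), map_add, map_sum, hEV _ haR]
  exact congrArg _ (Finset.sum_congr rfl fun i _ => by rw [E.Vinv_verschiebung_smul, hker])

theorem extPow_unique {r : ℕ} {E E' : Display3n p R (⋀[W]^r P)} (h : IsExtPow D r E) (h' : IsExtPow D r E') :
    E' = E := by
  refine display_ext (h'.1.trans h.1.symm) fun y hy hy' => ?_
  have hle : E'.Q ≤ E.Q := (h'.1.trans h.1.symm).le
  refine LinearMap.congr_fun (semilinear_ext_of_eq_span h'.1 E'.Vinv (E.Vinv.comp (Submodule.inclusion hle))
    (fun x hx hxQ => ?_)) ⟨y, hy⟩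
  obtain ⟨q, rfl⟩ := hx
  exact (h'.2 q hxQ).trans (h.2 q (hle hxQ)).symm

theorem isAltMult_ιMulti {r : ℕ} {E : Display3n p R (⋀[W]^r P)} (hE : IsExtPow D r E) :
    IsAltMult D E (exteriorPower.ιMulti W r) := by
  have hm : ∀ q : Fin r → D.Q, exteriorPower.ιMulti W r (fun i => (q i : P)) ∈ E.Q := fun q =>
    hE.1 ▸ Submodule.subset_span ⟨q, rfl⟩
  refine ⟨hm, fun q => hE.2 q (hm q), fun i x q => ?_⟩
  have hx : WittVector.verschiebung (1 : W) • x ∈ D.Q :=
    D.IV_smul_le (Submodule.smul_mem_smul (verschiebung_mem_IV p R 1) Submodule.mem_top)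
  have e1 : (fun j => ((Function.update q i ⟨_, hx⟩ : Fin r → D.Q) j : P)) =
      Function.update (fun j => (q j : P)) i (WittVector.verschiebung (1 : W) • x) :=
    funext fun j => Function.apply_update (fun _ (y : D.Q) => (y : P)) q i ⟨_, hx⟩ j
  have e2 : (fun j => D.Vinv ((Function.update q i ⟨_, hx⟩ : Fin r → D.Q) j)) =
      Function.update (fun j => D.Vinv (q j)) i (D.F x) := by
    rw [F_eq_Vinv]
    exact funext fun j => Function.apply_update (fun _ => D.Vinv) q i ⟨_, hx⟩ j
  rw [F_eq_Vinv, ← e2, ← hE.2 (Function.update q i ⟨_, hx⟩) (hm _)]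
  exact congrArg E.Vinv (Subtype.ext (((congrArg (exteriorPower.ιMulti W r) e1).trans
    (AlternatingMap.map_update_smul _ _ _ _ _)).symm))

theorem existsUnique_extHom {r : ℕ} {E : Display3n p R (⋀[W]^r P)} (hE : IsExtPow D r E) {P' : Type w}
    [AddCommGroup P'] [Module W P'] (D' : Display3n p R P') (φ : P [⋀^Fin r]→ₗ[W] P') (hφ : IsAltMult D D' φ) :
    ∃! ψ : ⋀[W]^r P →ₗ[W] P', IsHom E D' ψ ∧ ψ.compAlternatingMap (exteriorPower.ιMulti W r) = φ := by
  let ψ := exteriorPower.alternatingMapLinearEquiv φ
  have hψ : ∀ m, ψ (exteriorPower.ιMulti W r m) = φ m :=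
    fun m => exteriorPower.alternatingMapLinearEquiv_apply_ιMulti φ m
  have hm : ∀ y, y ∈ E.Q → ψ y ∈ D'.Q := by
    intro y hy
    rw [hE.1] at hy
    refine Submodule.span_le (p := D'.Q.comap ψ).2 ?_ hy
    rintro _ ⟨q, rfl⟩
    show ψ _ ∈ D'.Q
    rw [hψ]
    exact hφ.mapsTo q
  refine ⟨ψ, ⟨isHom_of_Vinv E D' ψ hm fun z => ?_,
    exteriorPower.alternatingMapLinearEquiv_comp_ιMulti φ⟩, fun ψ' hψ' => ?_⟩
  · refine LinearMap.congr_fun (semilinear_ext_of_eq_span hE.1 (ψ.comp E.Vinv)
      (D'.Vinv.comp (ψ.restrict hm)) (fun x hx hxQ => ?_)) z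
    obtain ⟨q, rfl⟩ := hx
    show ψ (E.Vinv ⟨_, hxQ⟩) = D'.Vinv ⟨ψ (exteriorPower.ιMulti W r (fun i => (q i : P))), _⟩
    rw [hE.2 q hxQ, hψ, ← hφ.vCond q]
    exact congrArg D'.Vinv (Subtype.ext (hψ _).symm)
  · refine exteriorPower.linearMap_ext ?_
    rw [hψ'.2]
    exact (exteriorPower.alternatingMapLinearEquiv_comp_ιMulti φ).symm

/-- A basis of the kernel of an endomorphism killing some vectors of a basis and fixing the others. -/
theorem free_ker {A : Type u} [CommRing A] [Nontrivial A] {M : Type v} [AddCommGroup M] [Module A M] {ι : Type*}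
    [Fintype ι] (b : Module.Basis ι A M) (e : M →ₗ[A] M) (K : ι → Prop) [DecidablePred K]
    (he : ∀ i, e (b i) = if K i then 0 else b i) :
    Module.Free A (LinearMap.ker e) ∧ Module.finrank A (LinearMap.ker e) = Fintype.card {i // K i} := by
  let v : {i // K i} → LinearMap.ker e := fun i => ⟨b i, by rw [LinearMap.mem_ker, he, if_pos i.2]⟩
  have hli : LinearIndependent A v :=
    LinearIndependent.of_comp (LinearMap.ker e).subtype (b.linearIndependent.comp _ Subtype.val_injective)
  have hsp : ⊤ ≤ Submodule.span A (Set.range v) := by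
    rintro ⟨x, hx⟩ -
    rw [LinearMap.mem_ker] at hx
    have hzero : ∀ i, ¬ K i → b.repr x i = 0 := by
      intro i hi
      have h1 : e x = ∑ j, b.repr x j • (if K j then 0 else b j) := by
        conv_lhs => rw [← b.sum_repr x, map_sum]
        simp only [map_smul, he]
      rw [hx] at h1
      have h2 : b.repr (∑ j, b.repr x j • (if K j then 0 else b j)) i = 0 := by rw [← h1, map_zero]; rfl
      rw [map_sum, Finsupp.finset_sum_apply, Finset.sum_eq_single i] at h2
      · simpa [hi] using h2
      · intro j _ hj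
        split_ifs <;> simp [hj]
      · simp
    have h3 : (⟨x, hx⟩ : LinearMap.ker e) = ∑ i : {i // K i}, b.repr x i • v i := by
      refine Subtype.ext ?_
      rw [Submodule.coe_sum]
      show x = ∑ i : {i // K i}, b.repr x i • b i
      conv_lhs => rw [← b.sum_repr x, ← Finset.sum_filter_of_ne (p := K)
        (fun i _ h => by_contra fun hi => h (by rw [hzero i hi, zero_smul]))]
      exact Finset.sum_subtype _ (by simp) _
    rw [h3]
    exact Submodule.sum_mem _ fun i _ => Submodule.smul_mem _ _ (Submodule.subset_span ⟨i, rfl⟩)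
  let B := Module.Basis.mk hli hsp
  exact ⟨Module.Free.of_basis B, Module.finrank_eq_card_basis B⟩

theorem card_powersetCard_mem (m r : ℕ) (hr : 1 ≤ r) :
    Fintype.card {s : Set.powersetCard (Fin (m + 1)) r // (0 : Fin (m + 1)) ∈ (s : Finset (Fin (m + 1)))} =
      m.choose (r - 1) := by
  obtain ⟨k, rfl⟩ : ∃ k, r = k + 1 := ⟨r - 1, by omega⟩
  let e : {s : Set.powersetCard (Fin (m + 1)) (k + 1) // (0 : Fin (m + 1)) ∈ (s : Finset (Fin (m + 1)))} ≃
      ↥(((Finset.univ : Finset (Fin (m + 1))).powersetCard (k + 1)).filter fun s => 0 ∈ s) :=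
    { toFun := fun s => ⟨s.1.1, Finset.mem_filter.2
        ⟨Finset.mem_powersetCard.2 ⟨Finset.subset_univ _, Set.powersetCard.mem_iff.1 s.1.2⟩, s.2⟩⟩
      invFun := fun s => ⟨⟨s.1, Set.powersetCard.mem_iff.2
        (Finset.mem_powersetCard.1 (Finset.mem_filter.1 s.2).1).2⟩, (Finset.mem_filter.1 s.2).2⟩
      left_inv := fun s => rfl
      right_inv := fun s => rfl }
  rw [Fintype.card_congr e, Fintype.card_coe]
  have h1 := Finset.card_filter_add_card_filter_not (s := (Finset.univ : Finset (Fin (m + 1))).powersetCard (k + 1))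
    (fun s => (0 : Fin (m + 1)) ∈ s)
  have h2 : ((Finset.univ : Finset (Fin (m + 1))).powersetCard (k + 1)).filter (fun s => ¬ (0 : Fin (m + 1)) ∈ s) =
      ((Finset.univ : Finset (Fin (m + 1))).erase 0).powersetCard (k + 1) := by
    ext s
    simp [Finset.subset_erase, and_comm]
  rw [h2, Finset.card_powersetCard, Finset.card_powersetCard, Finset.card_erase_of_mem (Finset.mem_univ _),
    Finset.card_univ, Fintype.card_fin, Nat.choose_succ_succ] at h1
  simp only [Nat.succ_eq_add_one, Nat.add_sub_cancel] at h1 ⊢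
  omega

/-- The rank of the tangent module of an exterior power. -/
theorem free_ker_extProj [Nontrivial R] (hLT : IsCompl L T) (hT : Nonempty (T ≃ₗ[W] W)) (hL : Module.Free W L)
    (hfin : Module.Finite W L) {m : ℕ} (hLr : Module.finrank W L = m) {r : ℕ} (hr : 1 ≤ r) :
    Module.Free W (LinearMap.ker (extProj (p := p) hLT r)) ∧
      Module.finrank W (LinearMap.ker (extProj (p := p) hLT r)) = m.choose (r - 1) := by
  classical
  obtain ⟨eT⟩ := hT
  let bT : Module.Basis (Fin 1) W T := (Module.Basis.singleton (Fin 1) W).map eT.symm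
  let bL : Module.Basis (Fin m) W L := Module.finBasisOfFinrankEq W L hLr
  let b : Module.Basis (Fin (m + 1)) W P :=
    ((bT.prod bL).map (Submodule.prodEquivOfIsCompl T L hLT.symm)).reindex
      (finSumFinEquiv.trans (finCongr (add_comm 1 m)))
  have hb : ∀ i : Fin (m + 1), L.projection T hLT (b i) = if i = 0 then 0 else b i := by
    intro i
    obtain ⟨j, rfl⟩ := (finSumFinEquiv.trans (finCongr (add_comm 1 m))).surjective i
    rcases j with a | a
    · rw [if_pos (Fin.ext (by simp))]
      refine (Submodule.projection_apply_eq_zero_iff hLT).2 ?_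
      simp only [b, Module.Basis.reindex_apply, Equiv.symm_apply_apply]
      simp
    · rw [if_neg (Fin.ne_of_val_ne (by simp))]
      refine Submodule.projection_apply_of_mem_left hLT ?_
      simp only [b, Module.Basis.reindex_apply, Equiv.symm_apply_apply]
      simp
  have h := free_ker (b.exteriorPower r) (extProj (p := p) hLT r)
    (fun s => (0 : Fin (m + 1)) ∈ (s : Finset (Fin (m + 1)))) (fun s => ?_)
  · exact ⟨h.1, h.2.trans (card_powersetCard_mem m r hr)⟩
  · rw [exteriorPower.basis_apply, exteriorPower.ιMulti_family, extProj, exteriorPower.map_apply_ιMulti]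
    split_ifs with h0
    · obtain ⟨k, hk⟩ := (Set.powersetCard.mem_range_ofFinEmbEquiv_symm_iff_mem s (0 : Fin (m + 1))).2 h0
      refine (exteriorPower.ιMulti W r).map_coord_zero k ?_
      simp only [Function.comp_apply, hk, hb, if_true]
    · congr 1
      funext k
      simp only [Function.comp_apply, hb]
      rw [if_neg]
      intro hk
      exact h0 ((Set.powersetCard.mem_range_ofFinEmbEquiv_symm_iff_mem s 0).1 ⟨k, hk⟩)

end Groth.Agent.Disp23
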