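import Groth.Agent.Lib.Disp23.BaseChange
import Mathlib.Data.Matrix.Mul

/-!
# The nilpotence condition in coordinates
-/

universe u v w

open W4c1extbt610 Dieu

noncomputable section

namespace Groth.Agent.Disp23

theorem bcFun_castHom_push {A B C : Type u} [CommRing A] [CommRing B] [CommRing C] (g : A →+* B) (h : B →+* C)
    {g' : A →+* C} (e : h.comp g = g') {P : Type v} [AddCommGroup P] [Module A P] (f : P →ₗ[A] A) (y : BC g P) :
    bcFun g' f (BC.castHom e (BC.push g h y)) = h (bcFun g f y) := by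
  subst e
  induction y using BC.induction_on with
  | zero => simp
  | tmul b x => rw [BC.push_tmul, BC.castHom_tmul, bcFun_tmul, bcFun_tmul, map_mul]; rfl
  | add a b ha hb => simp only [map_add, ha, hb]

section Mat

variable {A : Type u} [CommRing A] (s : A →+* A) {ι : Type w} [Fintype ι]

/-- The matrices of the iterates: `C 0 = M`, `C (n+1) = s (C n) * M`. -/
def powMat (M : Matrix ι ι A) : ℕ → Matrix ι ι A
  | 0 => M
  | n + 1 => (powMat M n).map s * M

theorem powMat_add (M : Matrix ι ι A) (a b : ℕ) :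
    powMat s M (a + b + 1) = (powMat s M a).map ⇑(s ^ (b + 1)) * powMat s M b := by
  induction b with
  | zero => rw [pow_one]; rfl
  | succ b ih =>
    show (powMat s M (a + b + 1)).map s * M = _ * ((powMat s M b).map s * M)
    rw [ih, Matrix.map_mul, Matrix.map_map, Matrix.mul_assoc, ← RingHom.coe_comp, comp_pow_eq_pow_succ]

theorem powMat_map {B : Type v} [CommRing B] (s' : B →+* B) (g : A →+* B) (hg : ∀ x, g (s x) = s' (g x))
    (M : Matrix ι ι A) (n : ℕ) : powMat s' (M.map g) n = (powMat s M n).map g := by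
  induction n with
  | zero => rfl
  | succ n ih =>
    show (powMat s' (M.map g) n).map s' * M.map g = ((powMat s M n).map s * M).map g
    rw [ih, Matrix.map_mul, Matrix.map_map, Matrix.map_map]
    congr 1
    ext i j
    exact (hg _).symm

theorem pow_apply_mem {J : Ideal A} (hJ : ∀ x ∈ J, s x ∈ J) (n : ℕ) : ∀ x ∈ J, (s ^ n) x ∈ J := by
  induction n with
  | zero => exact fun x hx => hx
  | succ n ih =>
    intro x hx
    rw [← comp_pow_eq_pow_succ s n]
    exact hJ _ (ih x hx)

/-- Entries in `J` after `m + 1` steps give entries in `J ^ (k + 1)` after `(k + 1) (m + 1)` steps. -/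
theorem powMat_mem_pow {J : Ideal A} (hJ : ∀ x ∈ J, s x ∈ J) (M : Matrix ι ι A) (m : ℕ)
    (hm : ∀ i j, powMat s M m i j ∈ J) (k : ℕ) : ∃ N, ∀ i j, powMat s M N i j ∈ J ^ (k + 1) := by
  induction k with
  | zero => exact ⟨m, by simpa using hm⟩
  | succ k ih =>
    obtain ⟨N, hN⟩ := ih
    refine ⟨N + m + 1, fun i j => ?_⟩
    rw [powMat_add, Matrix.mul_apply, pow_succ]
    refine Submodule.sum_mem _ fun l _ => Ideal.mul_mem_mul ?_ (hm l j)
    refine pow_apply_mem s (fun x hx => ?_) _ _ (hN i l)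
    have : Ideal.map s (J ^ (k + 1)) ≤ J ^ (k + 1) := by
      rw [Ideal.map_pow]
      exact Ideal.pow_right_mono (Ideal.map_le_iff_le_comap.2 hJ) _
    exact this (Ideal.mem_map_of_mem _ hx)

end Mat

variable {p : ℕ} [Fact p.Prime] {R : Type u} [CommRing R]
variable {P : Type v} [AddCommGroup P] [Module (WittVector p R) P]
variable {ι : Type w} [Fintype ι] {e : ι → P} {f : ι → P →ₗ[WittVector p R] WittVector p R}

local notation "W" => WittVector p R
local notation "σ" => (WittVector.frobenius : WittVector p R →+* WittVector p R)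

/-- The matrix of `Vs`. -/
def vMat (e : ι → P) (f : ι → P →ₗ[W] W) (Vs : P →ₗ[W] BC σ P) : Matrix ι ι W :=
  Matrix.of fun i k => bcFun σ (f i) (Vs (e k))

theorem bcFun_vSharpPow (hf : ∀ x, x = ∑ i, f i x • e i) (Vs : P →ₗ[W] BC σ P) (n : ℕ) (i k : ι) :
    bcFun (σ ^ (n + 1)) (f i) (vSharpPow Vs n (e k)) = powMat σ (vMat e f Vs) n i k := by
  induction n generalizing i k with
  | zero =>
    rw [vSharpPow_zero_apply]
    show bcFun _ (f i) (BC.castHom _ (Vs (e k))) = bcFun σ (f i) (Vs (e k))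
    induction Vs (e k) using BC.induction_on with
    | zero => simp
    | tmul b x => rw [BC.castHom_tmul, bcFun_tmul, bcFun_tmul, pow_one]
    | add a b ha hb => simp only [map_add, ha, hb]
  | succ n ih =>
    rw [vSharpPow_succ_apply, bc_expand σ hf (Vs (e k))]
    simp only [map_sum, map_smul, BC.map_tmul, BC.lift_tmul, one_smul, bcFun_castHom_push, smul_eq_mul, ih]
    show _ = ((powMat σ (vMat e f Vs) n).map σ * vMat e f Vs) i k
    rw [Matrix.mul_apply]
    exact Finset.sum_congr rfl fun j _ => mul_comm _ _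

theorem vSharpPow_mem_iff (hf : ∀ x, x = ∑ i, f i x • e i) (Vs : P →ₗ[W] BC σ P) (n : ℕ) (J : Ideal W) :
    (∀ x, vSharpPow Vs n x ∈ J • (⊤ : Submodule W (BC (σ ^ (n + 1)) P))) ↔
      ∀ i k, powMat σ (vMat e f Vs) n i k ∈ J := by
  refine ⟨fun h i k => ?_, fun h x => (bc_mem_smul_top _ hf J _).2 fun i => ?_⟩
  · rw [← bcFun_vSharpPow hf]
    exact (bc_mem_smul_top _ hf J _).1 (h _) i
  · rw [hf x, map_sum, map_sum]
    refine Submodule.sum_mem _ fun k _ => ?_
    rw [map_smul, map_smul, smul_eq_mul, bcFun_vSharpPow hf]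
    exact J.mul_mem_left _ (h i k)

theorem isVNilpotent_iff (hf : ∀ x, x = ∑ i, f i x • e i) (Vs : P →ₗ[W] BC σ P) :
    IsVNilpotent Vs ↔ ∃ n, ∀ i k, powMat σ (vMat e f Vs) n i k ∈ IV p R ⊔ Ideal.span {(p : W)} :=
  exists_congr fun n => vSharpPow_mem_iff hf Vs n _

theorem frobenius_mem_J (x : W) (hx : x ∈ IV p R ⊔ Ideal.span {(p : W)}) :
    WittVector.frobenius x ∈ IV p R ⊔ Ideal.span {(p : W)} := by
  obtain ⟨a, ha, b, hb, rfl⟩ := Submodule.mem_sup.1 hx
  obtain ⟨u, rfl⟩ := exists_verschiebung_eq ha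
  obtain ⟨c, rfl⟩ := Ideal.mem_span_singleton.1 hb
  rw [map_add, frobenius_verschiebung', map_mul, map_natCast]
  refine Submodule.mem_sup_right ?_
  rw [← mul_add]
  exact Ideal.mul_mem_right _ _ (Ideal.mem_span_singleton_self _)

theorem verschiebung_pow (a : W) (j : ℕ) :
    WittVector.verschiebung a ^ (j + 1) = WittVector.verschiebung ((p : W) ^ j * a ^ (j + 1)) := by
  induction j with
  | zero => simp
  | succ j ih =>
    rw [pow_succ, ih, ← WittVector.verschiebung_mul_frobenius, frobenius_verschiebung']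
    congr 1
    ring

theorem natCast_pow_mem_ker_truncate (hp : IsNilpotent (p : R)) (n : ℕ) :
    ∃ N, (p : W) ^ N ∈ RingHom.ker (WittVector.truncate (p := p) (R := R) n) := by
  obtain ⟨e, he⟩ := hp
  induction n with
  | zero => exact ⟨0, by rw [WittVector.mem_ker_truncate]; intro i hi; omega⟩
  | succ n ih =>
    obtain ⟨N, hN⟩ := ih
    refine ⟨e * (N + 1), ?_⟩
    obtain ⟨a, ha⟩ := exists_verschiebung_eq (x := (p : W) ^ e) (by
      rw [IV_eq_ker, RingHom.mem_ker, map_pow, map_natCast, he])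
    rw [pow_mul, ← ha, verschiebung_pow, WittVector.mem_ker_truncate]
    intro i hi
    cases i with
    | zero => exact WittVector.verschiebung_coeff_zero _
    | succ i =>
      rw [WittVector.verschiebung_coeff_succ]
      exact WittVector.mem_ker_truncate n _ |>.1 (Ideal.mul_mem_right (a ^ (N + 1)) _ hN) i (by omega)

theorem J_pow_le (k : ℕ) :
    (IV p R ⊔ Ideal.span {(p : W)}) ^ (k + 1) ≤ Ideal.span {(p : W) ^ k} := by
  have hsq : (IV p R ⊔ Ideal.span {(p : W)}) * (IV p R ⊔ Ideal.span {(p : W)}) ≤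
      Ideal.span {(p : W)} * (IV p R ⊔ Ideal.span {(p : W)}) := by
    refine Ideal.mul_le.2 fun x hx y hy => ?_
    obtain ⟨a, ha, b, hb, rfl⟩ := Submodule.mem_sup.1 hx
    obtain ⟨a', ha', b', hb', rfl⟩ := Submodule.mem_sup.1 hy
    obtain ⟨u, rfl⟩ := exists_verschiebung_eq ha
    obtain ⟨u', rfl⟩ := exists_verschiebung_eq ha'
    rw [add_mul, mul_add (WittVector.verschiebung u)]
    refine add_mem (add_mem ?_ ?_) (Ideal.mul_mem_mul hb hy)
    · rw [← WittVector.verschiebung_mul_frobenius, frobenius_verschiebung',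
        show u * ((p : W) * u') = p • (u * u') by rw [nsmul_eq_mul]; ring, map_nsmul, nsmul_eq_mul]
      exact Ideal.mul_mem_mul (Ideal.mem_span_singleton_self _)
        (Submodule.mem_sup_left (verschiebung_mem_IV p R _))
    · rw [mul_comm (WittVector.verschiebung u) b']
      exact Ideal.mul_mem_mul hb' (Submodule.mem_sup_left (verschiebung_mem_IV p R _))
  induction k with
  | zero => simp
  | succ k ih =>
    calc (IV p R ⊔ Ideal.span {(p : W)}) ^ (k + 1 + 1)
        = (IV p R ⊔ Ideal.span {(p : W)}) ^ k *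
            ((IV p R ⊔ Ideal.span {(p : W)}) * (IV p R ⊔ Ideal.span {(p : W)})) := by rw [pow_succ, pow_succ]; ring
      _ ≤ (IV p R ⊔ Ideal.span {(p : W)}) ^ k *
            (Ideal.span {(p : W)} * (IV p R ⊔ Ideal.span {(p : W)})) := Ideal.mul_mono_right hsq
      _ = Ideal.span {(p : W)} * (IV p R ⊔ Ideal.span {(p : W)}) ^ (k + 1) := by rw [pow_succ]; ring
      _ ≤ Ideal.span {(p : W)} * Ideal.span {(p : W) ^ k} := Ideal.mul_mono_right ih
      _ = Ideal.span {(p : W) ^ (k + 1)} := by rw [Ideal.span_singleton_mul_span_singleton, pow_succ']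

theorem exists_vSharpPow_mem_ker_truncate [Module.Finite W P] [Module.Projective W P] (hp : IsNilpotent (p : R))
    (Vs : P →ₗ[W] BC σ P) (hnil : IsVNilpotent Vs) (n : ℕ) :
    ∃ N : ℕ, ∀ x : P, vSharpPow Vs N x ∈
      (RingHom.ker (WittVector.truncate (p := p) (R := R) n)) • (⊤ : Submodule W (BC (σ ^ (N + 1)) P)) := by
  obtain ⟨t, e, f, hf⟩ := exists_coords_top (A := W) (P := P)
  obtain ⟨m, hm⟩ := (isVNilpotent_iff hf Vs).1 hnil
  obtain ⟨k, hk⟩ := natCast_pow_mem_ker_truncate hp n
  obtain ⟨N, hN⟩ := powMat_mem_pow σ frobenius_mem_J _ m hm k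
  refine ⟨N, (vSharpPow_mem_iff hf Vs N _).2 fun i j => ?_⟩
  exact (Ideal.span_le.2 (Set.singleton_subset_iff.2 hk)) (J_pow_le k (hN i j))

theorem constantCoeff_map_mem {S : Type u} [CommRing S] (g : S →+* R) (x : WittVector p S)
    (hx : x ∈ IV p S ⊔ Ideal.span {(p : WittVector p S)}) :
    WittVector.map g x ∈ IV p R ⊔ Ideal.span {(p : W)} := by
  obtain ⟨a, ha, b, hb, rfl⟩ := Submodule.mem_sup.1 hx
  obtain ⟨c, rfl⟩ := Ideal.mem_span_singleton.1 hb
  obtain ⟨u, rfl⟩ := exists_verschiebung_eq ha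
  rw [map_add, WittVector.map_verschiebung, map_mul, map_natCast]
  exact Submodule.add_mem_sup (verschiebung_mem_IV p R _) (Ideal.mul_mem_right _ _ (Ideal.mem_span_singleton_self _))

/-- The base change of a display is a display. -/
theorem isDisplay_baseChange {S : Type u} [CommRing S] (g : S →+* R) {Q : Type v} [AddCommGroup Q]
    [Module (WittVector p S) Q] {D : Display3n p S Q}
    {DR : Display3n p R (BC (WittVector.map g : WittVector p S →+* W) Q)} (hDR : IsDispBaseChange g D DR)
    (hD : IsDisplay D) : IsDisplay DR := by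
  obtain ⟨Vs, hVs, hnil⟩ := hD
  have := D.finite
  have := D.projective
  obtain ⟨t, e, f, hf⟩ := exists_coords_top (A := WittVector p S) (P := Q)
  let Vs' := BC.lift (WittVector.map g : WittVector p S →+* W) ((theta g).comp Vs)
  refine ⟨Vs', isVSharp_baseChange hDR hVs, ?_⟩
  obtain ⟨m, hm⟩ := (isVNilpotent_iff hf Vs).1 hnil
  rw [isVNilpotent_iff (bc_expand (WittVector.map g : WittVector p S →+* W) hf) Vs']
  refine ⟨m, fun i k => ?_⟩
  have hM : vMat (fun i => BC.tmul (WittVector.map g : WittVector p S →+* W) 1 (e i))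
      (fun i => bcFun (WittVector.map g : WittVector p S →+* W) (f i)) Vs' =
      (vMat e f Vs).map (WittVector.map g : WittVector p S →+* W) := by
    ext i k : 1
    show bcFun σ _ (Vs' (BC.tmul _ 1 (e k))) = WittVector.map g (bcFun _ (f i) (Vs (e k)))
    rw [BC.lift_tmul, one_smul, LinearMap.comp_apply]
    induction Vs (e k) using BC.induction_on with
    | zero => simp
    | tmul b x => rw [theta_tmul, bcFun_tmul, bcFun_tmul, bcFun_tmul, one_mul, map_mul, map_frobenius_comm g]
    | add a b ha hb => simp only [map_add, ha, hb]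
  rw [hM, powMat_map _ _ _ (map_frobenius_comm g)]
  exact constantCoeff_map_mem g _ (hm i k)

end Groth.Agent.Disp23
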