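import Groth.Agent.Lib.Disp23.SqZero
import Groth.Agent.Lib.Disp23.Nilp
import Mathlib.RingTheory.Nilpotent.Basic
import Mathlib.RingTheory.Nilpotent.Lemmas

/-!
# Rigidity of homomorphisms of displays
-/

universe u v v'

open W4c1extbt610 Dieu

noncomputable section

namespace Groth.Agent.Disp23

variable {p : ℕ} [Fact p.Prime] {S : Type u} [CommRing S]
variable {P : Type v} [AddCommGroup P] [Module (WittVector p S) P]
variable {P' : Type v'} [AddCommGroup P'] [Module (WittVector p S) P']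

local notation "W" => WittVector p S
local notation "σ" => (WittVector.frobenius : WittVector p S →+* WittVector p S)

section Core

variable {𝔞 : Ideal S} {ι : Type*} [Fintype ι] {e : ι → P'} {f : ι → P' →ₗ[WittVector p S] WittVector p S}

/-- The extension of `V⁻¹` to `W(𝔞) P`. -/
def gMap (e : ι → P') (f : ι → P' →ₗ[W] W) (D' : Display3n p S P') (x : P') : P' :=
  ∑ i, vshift (f i x) • D'.F (e i)

theorem gMap_zero (D' : Display3n p S P') : gMap e f D' 0 = 0 := by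
  simp [gMap, vshift_zero]

theorem gMap_add (h𝔞 : ∀ a ∈ 𝔞, ∀ b ∈ 𝔞, a * b = 0) (D' : Display3n p S P') {x y : P'}
    (hx : ∀ i, f i x ∈ wIdeal p 𝔞) (hy : ∀ i, f i y ∈ wIdeal p 𝔞) :
    gMap e f D' (x + y) = gMap e f D' x + gMap e f D' y := by
  simp only [gMap, map_add, ← Finset.sum_add_distrib, ← add_smul]
  exact Finset.sum_congr rfl fun i _ => by rw [vshift_add_sqzero h𝔞 (hx i) (hy i)]

theorem gMap_smul (h𝔞 : ∀ a ∈ 𝔞, ∀ b ∈ 𝔞, a * b = 0) (hp𝔞 : ∀ a ∈ 𝔞, (p : S) * a = 0) (D' : Display3n p S P')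
    (c : W) {x : P'} (hx : ∀ i, f i x ∈ wIdeal p 𝔞) :
    gMap e f D' (c • x) = WittVector.frobenius c • gMap e f D' x := by
  simp only [gMap, map_smul, smul_eq_mul, Finset.smul_sum, smul_smul]
  exact Finset.sum_congr rfl fun i _ => by rw [vshift_mul_sqzero h𝔞 hp𝔞 c (hx i)]

theorem gMap_mem (hf : ∀ x, x = ∑ i, f i x • e i) (D' : Display3n p S P') {x : P'}
    (hx : ∀ i, f i x ∈ wIdeal p 𝔞) : gMap e f D' x ∈ wIdeal p 𝔞 • (⊤ : Submodule W P') :=
  Submodule.sum_mem _ fun i _ => Submodule.smul_mem_smul (vshift_mem_wIdeal (hx i)) Submodule.mem_top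

theorem gMap_smul_mem (h𝔞 : ∀ a ∈ 𝔞, ∀ b ∈ 𝔞, a * b = 0) (hp𝔞 : ∀ a ∈ 𝔞, (p : S) * a = 0)
    (hf : ∀ x, x = ∑ i, f i x • e i) (D' : Display3n p S P') {r : W} (hr : r ∈ wIdeal p 𝔞) (z : P') :
    gMap e f D' (r • z) = vshift r • D'.F z := by
  conv_rhs => rw [hf z, map_sum, Finset.smul_sum]
  refine Finset.sum_congr rfl fun i _ => ?_
  rw [map_smul, smul_eq_mul, mul_comm, vshift_mul_sqzero h𝔞 hp𝔞 _ hr, LinearMap.map_smulₛₗ, smul_smul, mul_comm]

theorem gMap_sum (h𝔞 : ∀ a ∈ 𝔞, ∀ b ∈ 𝔞, a * b = 0) (D' : Display3n p S P') {κ : Type*} (s : Finset κ) (x : κ → P')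
    (hx : ∀ k i, f i (x k) ∈ wIdeal p 𝔞) :
    gMap e f D' (∑ k ∈ s, x k) = ∑ k ∈ s, gMap e f D' (x k) := by
  classical
  induction s using Finset.induction_on with
  | empty => simp [gMap_zero]
  | insert k s hk ih =>
    rw [Finset.sum_insert hk, Finset.sum_insert hk, gMap_add h𝔞 D' (hx k) (fun i => ?_), ih]
    rw [map_sum]
    exact Submodule.sum_mem _ fun k _ => hx k i

/-- `gMap` extends `V⁻¹`. -/
theorem gMap_eq_Vinv (h𝔞 : ∀ a ∈ 𝔞, ∀ b ∈ 𝔞, a * b = 0) (hp𝔞 : ∀ a ∈ 𝔞, (p : S) * a = 0)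
    (hf : ∀ x, x = ∑ i, f i x • e i) (D' : Display3n p S P') (y : D'.Q) (hy : ∀ i, f i (y : P') ∈ wIdeal p 𝔞) :
    D'.Vinv y = gMap e f D' (y : P') := by
  have := D'.finite
  have := D'.projective
  obtain ⟨L, T, hLT, hQ⟩ := D'.exists_normal
  obtain ⟨t, e', g, he', hgL, hg⟩ := exists_coords hLT.symm
  have hmem : ∀ (r : W) (z : P'), r ∈ wIdeal p 𝔞 → ∀ i, f i (r • z) ∈ wIdeal p 𝔞 := fun r z hr i => by
    rw [map_smul, smul_eq_mul]
    exact Ideal.mul_mem_right _ _ hr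
  have hyK : (y : P') ∈ wIdeal p 𝔞 • (⊤ : Submodule W P') := (mem_smul_top hf _ _).2 hy
  have hgK : ∀ (φ : P' →ₗ[W] W), φ (y : P') ∈ wIdeal p 𝔞 := fun φ => by
    refine Submodule.smul_induction_on hyK (fun r hr x _ => ?_) fun a b ha hb => ?_
    · rw [map_smul, smul_eq_mul]
      exact Ideal.mul_mem_right _ _ hr
    · rw [map_add]
      exact add_mem ha hb
  have hgIV : ∀ j, g j (y : P') ∈ IV p S := (mem_sup_iff hLT.symm g e' he' hg hgL _).1 (hQ ▸ y.2)
  have hl : ∀ i, L.projection T hLT (e i) ∈ L := fun i => Submodule.projection_apply_mem hLT _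
  have hlQ : ∀ i, L.projection T hLT (e i) ∈ D'.Q := fun i => hQ ▸ Submodule.mem_sup_left (hl i)
  let a : ι ⊕ Fin t → P' := Sum.elim (fun i => f i (y : P') • L.projection T hLT (e i)) fun j => g j (y : P') • e' j
  have haQ : ∀ k, a k ∈ D'.Q := by
    rintro (i | j)
    · exact D'.Q.smul_mem _ (hlQ i)
    · exact D'.IV_smul_le (Submodule.smul_mem_smul (hgIV j) Submodule.mem_top)
  have haK : ∀ k i, f i (a k) ∈ wIdeal p 𝔞 := by
    rintro (i | j)
    · exact hmem _ _ (hy i)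
    · exact hmem _ _ (hgK _)
  have hsum : (y : P') = ∑ k, a k := by
    rw [Fintype.sum_sum_type]
    show (y : P') = (∑ i, f i (y : P') • L.projection T hLT (e i)) + ∑ j, g j (y : P') • e' j
    rw [← hg]
    simp only [← map_smul, ← map_sum, ← hf]
    exact (Submodule.projection_add_projection_eq_self hLT _).symm
  have hy' : y = ∑ k, (⟨a k, haQ k⟩ : D'.Q) := Subtype.ext (by rw [Submodule.coe_sum]; exact hsum)
  rw [hsum, gMap_sum h𝔞 D' _ _ haK]
  conv_lhs => rw [hy', map_sum]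
  refine Finset.sum_congr rfl fun k _ => ?_
  rcases k with i | j
  · show D'.Vinv (f i (y : P') • (⟨_, hlQ i⟩ : D'.Q)) = gMap e f D' (f i (y : P') • L.projection T hLT (e i))
    rw [D'.Vinv.map_smulₛₗ, frobenius_eq_zero_of_sqzero h𝔞 hp𝔞 (hy i), zero_smul, gMap_smul_mem h𝔞 hp𝔞 hf D' (hy i),
      F_eq_p_smul_Vinv D' ⟨_, hlQ i⟩, smul_smul, mul_comm,
      p_mul_eq_zero_of_sqzero h𝔞 hp𝔞 (vshift_mem_wIdeal (hy i)), zero_smul]
  · show D'.Vinv ⟨g j (y : P') • e' j, _⟩ = gMap e f D' (g j (y : P') • e' j)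
    rw [gMap_smul_mem h𝔞 hp𝔞 hf D' (hgK _), ← D'.Vinv_verschiebung_smul]
    exact congrArg D'.Vinv (Subtype.ext (congrArg (· • e' j) (verschiebung_vshift (hgIV j)).symm))

theorem eq_zero_of_mem_J (h𝔞 : ∀ a ∈ 𝔞, ∀ b ∈ 𝔞, a * b = 0) (hp𝔞 : ∀ a ∈ 𝔞, (p : S) * a = 0)
    (hf : ∀ x, x = ∑ i, f i x • e i) {r : W} (hr : r ∈ IV p S ⊔ Ideal.span {(p : W)}) {z : P'}
    (hz : ∀ i, f i z ∈ wIdeal p 𝔞) : r • z = 0 := by
  rw [hf z, Finset.smul_sum]
  refine Finset.sum_eq_zero fun i _ => ?_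
  obtain ⟨a, ha, b, hb, rfl⟩ := Submodule.mem_sup.1 hr
  obtain ⟨c, rfl⟩ := Ideal.mem_span_singleton.1 hb
  rw [smul_smul, add_mul, IV_mul_eq_zero_of_sqzero h𝔞 hp𝔞 (hz i) ha, mul_comm (p : W), mul_assoc,
    p_mul_eq_zero_of_sqzero h𝔞 hp𝔞 (hz i), mul_zero, add_zero, zero_smul]

/-- Rigidity for an ideal of square zero killed by `p`. -/
theorem hom_eq_zero_sqzero (h𝔞 : ∀ a ∈ 𝔞, ∀ b ∈ 𝔞, a * b = 0) (hp𝔞 : ∀ a ∈ 𝔞, (p : S) * a = 0)
    {D : Display3n p S P} (hD : IsDisplay D) {D' : Display3n p S P'} {ψ : P →ₗ[W] P'} (hψ : IsHom D D' ψ)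
    (hval : ∀ x, ψ x ∈ wIdeal p 𝔞 • (⊤ : Submodule W P')) : ψ = 0 := by
  obtain ⟨Vs, hVs, n, hn⟩ := hD
  have := D'.finite
  have := D'.projective
  obtain ⟨t, e, f, hf⟩ := exists_coords_top (A := W) (P := P')
  have hψi : ∀ x i, f i (ψ x) ∈ wIdeal p 𝔞 := fun x => (mem_smul_top hf _ _).1 (hval x)
  let G := gMap e f D'
  have key : ∀ m, ∃ φ : P →ₛₗ[σ ^ (m + 1)] P', (∀ x i, f i (φ x) ∈ wIdeal p 𝔞) ∧
      ∀ x, ψ x = BC.lift (σ ^ (m + 1)) φ (vSharpPow Vs m x) := by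
    intro m
    induction m with
    | zero =>
      let φ : P →ₛₗ[σ ^ (0 + 1)] P' :=
        { toFun := fun x => G (ψ x)
          map_add' := fun x y => by rw [map_add]; exact gMap_add h𝔞 D' (hψi x) (hψi y)
          map_smul' := fun c x => by rw [map_smul, pow_one]; exact gMap_smul h𝔞 hp𝔞 D' c (hψi x) }
      refine ⟨φ, fun x => (mem_smul_top hf _ _).1 (gMap_mem hf D' (hψi x)), ?_⟩
      refine fun x => LinearMap.congr_fun
        (LinearMap.ext_on_range D.span_range_Vinv (f := ψ) (g := (BC.lift _ φ).comp (vSharpPow Vs 0))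
          fun y => ?_) x
      have h1 := hVs.app_smul_Vinv 1 y
      rw [one_smul] at h1
      rw [LinearMap.comp_apply, vSharpPow_zero_apply, h1, BC.castHom_tmul, BC.lift_tmul, one_smul, hψ.comm_Vinv]
      exact gMap_eq_Vinv h𝔞 hp𝔞 hf D' _ (hψi _)
    | succ m ih =>
      obtain ⟨φ, hφ, hφψ⟩ := ih
      let φ' : P →ₛₗ[σ ^ (m + 1 + 1)] P' :=
        { toFun := fun x => G (φ x)
          map_add' := fun x y => by rw [map_add]; exact gMap_add h𝔞 D' (hφ x) (hφ y)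
          map_smul' := fun c x => by
            rw [LinearMap.map_smulₛₗ]
            refine (gMap_smul h𝔞 hp𝔞 D' _ (hφ x)).trans ?_
            rw [← comp_pow_eq_pow_succ σ (m + 1), RingHom.comp_apply] }
      refine ⟨φ', fun x => (mem_smul_top hf _ _).1 (gMap_mem hf D' (hφ x)), ?_⟩
      have hlift : ∀ u i, f i (BC.lift (σ ^ (m + 1)) φ u) ∈ wIdeal p 𝔞 := by
        intro u i
        induction u using BC.induction_on with
        | zero => simp
        | tmul b x => rw [BC.lift_tmul, map_smul, smul_eq_mul]; exact Ideal.mul_mem_left _ _ (hφ x i)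
        | add a b ha hb => rw [map_add, map_add]; exact add_mem ha hb
      have hpush : ∀ u, BC.lift (σ ^ (m + 1 + 1)) φ' (BC.castHom (comp_pow_eq_pow_succ σ (m + 1))
          (BC.push (σ ^ (m + 1)) σ u)) = G (BC.lift (σ ^ (m + 1)) φ u) := by
        intro u
        induction u using BC.induction_on with
        | zero => simp only [map_zero]; exact (gMap_zero D').symm
        | tmul b x =>
          rw [BC.push_tmul, BC.castHom_tmul, BC.lift_tmul, BC.lift_tmul]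
          exact (gMap_smul h𝔞 hp𝔞 D' b (hφ x)).symm
        | add a b ha hb =>
          simp only [map_add, ha, hb]
          exact (gMap_add h𝔞 D' (hlift a) (hlift b)).symm
      refine fun x => LinearMap.congr_fun
        (LinearMap.ext_on_range D.span_range_Vinv (f := ψ) (g := (BC.lift _ φ').comp (vSharpPow Vs (m + 1)))
          fun y => ?_) x
      have h1 := hVs.app_smul_Vinv 1 y
      rw [one_smul] at h1
      rw [LinearMap.comp_apply, vSharpPow_succ_apply, h1, BC.map_tmul, BC.lift_tmul, one_smul, hpush, ← hφψ,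
        hψ.comm_Vinv]
      exact gMap_eq_Vinv h𝔞 hp𝔞 hf D' _ (hψi _)
  obtain ⟨φ, hφ, hφψ⟩ := key n
  ext x
  rw [hφψ, LinearMap.zero_apply]
  refine Submodule.smul_induction_on (p := fun z => BC.lift (σ ^ (n + 1)) φ z = 0) (hn x) (fun r hr z hzt => ?_)
    fun a b ha hb => by rw [map_add, ha, hb, add_zero]
  rw [map_smul]
  refine eq_zero_of_mem_J h𝔞 hp𝔞 hf hr fun i => ?_
  clear hzt
  induction z using BC.induction_on with
  | zero => simp
  | tmul b x => rw [BC.lift_tmul, map_smul, smul_eq_mul]; exact Ideal.mul_mem_left _ _ (hφ x i)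
  | add a b ha hb => rw [map_add, map_add]; exact add_mem ha hb

end Core

section BaseChange

variable {R : Type u} [CommRing R] (g : S →+* R)
variable {P' : Type v'} [AddCommGroup P'] [Module (WittVector p S) P']

local notation "Wg" => (WittVector.map g : WittVector p S →+* WittVector p R)

variable {g} in
/-- Homomorphisms base change to homomorphisms. -/
theorem isHom_baseChange {D : Display3n p S P} {D' : Display3n p S P'}
    {DR : Display3n p R (BC Wg P)} {DR' : Display3n p R (BC Wg P')}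
    (hDR : IsDispBaseChange g D DR) (hDR' : IsDispBaseChange g D' DR')
    {ψ : P →ₗ[W] P'} (hψ : IsHom D D' ψ) : IsHom DR DR' (BC.map Wg ψ) := by
  have := D.finite
  have := D.projective
  have hm : ∀ z, z ∈ DR.Q → BC.map Wg ψ z ∈ DR'.Q := by
    obtain ⟨L, T, hLT, hQ⟩ := D.exists_normal
    intro z hz
    rw [hDR.Q_eq, ker_bcQuotMap g hLT.symm hQ, Submodule.mem_sup] at hz
    obtain ⟨a, ⟨a', rfl⟩, b, hb, rfl⟩ := hz
    rw [map_add]
    refine add_mem ?_ ?_
    · induction a' using BC.induction_on with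
      | zero => simp
      | tmul w x =>
        rw [projT, BC.map_tmul, BC.map_tmul]
        exact tmul_mem_Q hDR' w (hψ.mapsTo _ (hQ ▸ Submodule.mem_sup_left (Submodule.projection_apply_mem _ x)))
      | add a b ha hb => rw [map_add, map_add]; exact add_mem ha hb
    · refine Submodule.smul_induction_on hb (fun r hr x _ => ?_) fun a b ha hb => ?_
      · rw [map_smul]
        exact DR'.IV_smul_le (Submodule.smul_mem_smul hr Submodule.mem_top)
      · rw [map_add]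
        exact add_mem ha hb
  refine isHom_of_Vinv DR DR' _ hm fun z => ?_
  let a : DR.Q →+ BC Wg P' := AddMonoidHom.mk' (fun z => BC.map Wg ψ (DR.Vinv z)) fun x y => by rw [map_add, map_add]
  let b : DR.Q →+ BC Wg P' := AddMonoidHom.mk' (fun z => DR'.Vinv ⟨_, hm z z.2⟩) fun x y => by
    rw [← map_add]
    exact congrArg DR'.Vinv (Subtype.ext (map_add _ _ _))
  refine DFunLike.congr_fun (baseChange_ext hDR a b (fun w y hq => ?_) (fun w x hq => ?_)) z
  · show BC.map Wg ψ (DR.Vinv ⟨_, hq⟩) = DR'.Vinv ⟨BC.map Wg ψ (BC.tmul Wg w (y : P)), _⟩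
    rw [hDR.Vinv_tmul, BC.map_tmul, hψ.comm_Vinv, ← hDR'.Vinv_tmul w ⟨ψ y, hψ.mapsTo _ y.2⟩
      (tmul_mem_Q hDR' w (hψ.mapsTo _ y.2))]
    exact congrArg DR'.Vinv (Subtype.ext (BC.map_tmul _ _ _ _).symm)
  · have hq' : BC.tmul Wg (WittVector.verschiebung w) (ψ x) ∈ DR'.Q := by
      rw [← BC.map_tmul]; exact hm _ hq
    show BC.map Wg ψ (DR.Vinv ⟨_, hq⟩) = DR'.Vinv ⟨BC.map Wg ψ (BC.tmul Wg (WittVector.verschiebung w) x), _⟩
    rw [hDR.Vinv_verschiebung_tmul, BC.map_tmul, hψ.comm_F, ← hDR'.Vinv_verschiebung_tmul w (ψ x) hq']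
    exact congrArg DR'.Vinv (Subtype.ext (BC.map_tmul _ _ _ _).symm)

theorem ι_eq_zero_iff [Module.Finite W P'] [Module.Projective W P'] (z : P') :
    BC.tmul Wg 1 z = 0 ↔ z ∈ wIdeal p (RingHom.ker g) • (⊤ : Submodule W P') := by
  obtain ⟨t, e, f, hf⟩ := exists_coords_top (A := W) (P := P')
  rw [mem_smul_top hf, ← ker_map_eq_wIdeal]
  refine ⟨fun h i => ?_, fun h => bc_eq_zero _ hf fun i => ?_⟩
  · rw [RingHom.mem_ker, ← one_mul (WittVector.map g (f i z)), ← bcFun_tmul, h, map_zero]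
  · rw [bcFun_tmul, one_mul]
    exact h i

end BaseChange

theorem wIdeal_bot {x : W} (hx : x ∈ wIdeal p (⊥ : Ideal S)) : x = 0 := by
  ext i
  rw [WittVector.zero_coeff]
  exact Ideal.mem_bot.1 ((mem_wIdeal x).1 hx i)

theorem eq_zero_of_mem_bot [Module.Finite W P] [Module.Projective W P] {z : P}
    (hz : z ∈ wIdeal p (⊥ : Ideal S) • (⊤ : Submodule W P)) : z = 0 := by
  obtain ⟨t, e, f, hf⟩ := exists_coords_top (A := W) (P := P)
  rw [hf z]
  simp [fun i => wIdeal_bot ((mem_smul_top hf _ _).1 hz i)]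

theorem hom_mem_step {D : Display3n p S P} (hD : IsDisplay D) {D' : Display3n p S P'} {ψ : P →ₗ[W] P'}
    (hψ : IsHom D D' ψ) {𝔞 𝔟 : Ideal S} (h2 : 𝔞 * 𝔞 ≤ 𝔟) (hp2 : Ideal.span {(p : S)} * 𝔞 ≤ 𝔟)
    (hval : ∀ x, ψ x ∈ wIdeal p 𝔞 • (⊤ : Submodule W P')) (x : P) :
    ψ x ∈ wIdeal p 𝔟 • (⊤ : Submodule W P') := by
  let q : S →+* S ⧸ 𝔟 := Ideal.Quotient.mk 𝔟
  have := D'.finite
  have := D'.projective
  obtain ⟨DS, hDS⟩ := exists_baseChange q D
  obtain ⟨DS', hDS'⟩ := exists_baseChange q D'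
  obtain ⟨t, e, f, hf⟩ := exists_coords_top (A := W) (P := P')
  have hsq : ∀ a ∈ 𝔞.map q, ∀ b ∈ 𝔞.map q, a * b = 0 := fun a ha b hb => by
    obtain ⟨a', ha', rfl⟩ := (Ideal.mem_map_iff_of_surjective q Ideal.Quotient.mk_surjective).1 ha
    obtain ⟨b', hb', rfl⟩ := (Ideal.mem_map_iff_of_surjective q Ideal.Quotient.mk_surjective).1 hb
    rw [← map_mul, Ideal.Quotient.eq_zero_iff_mem]
    exact h2 (Ideal.mul_mem_mul ha' hb')
  have hpk : ∀ a ∈ 𝔞.map q, (p : S ⧸ 𝔟) * a = 0 := fun a ha => by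
    obtain ⟨a', ha', rfl⟩ := (Ideal.mem_map_iff_of_surjective q Ideal.Quotient.mk_surjective).1 ha
    rw [← map_natCast q p, ← map_mul, Ideal.Quotient.eq_zero_iff_mem]
    exact hp2 (Ideal.mul_mem_mul (Ideal.mem_span_singleton_self _) ha')
  have h0 := hom_eq_zero_sqzero hsq hpk (isDisplay_baseChange q hDS hD) (isHom_baseChange hDS hDS' hψ) (fun z => by
    rw [mem_smul_top (bc_expand (WittVector.map q : W →+* _) hf)]
    intro i
    induction z using BC.induction_on with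
    | zero => simp
    | add a b ha hb => rw [map_add, map_add]; exact add_mem ha hb
    | tmul w y =>
      rw [BC.map_tmul, bcFun_tmul]
      refine Ideal.mul_mem_left _ _ ((mem_wIdeal _).2 fun j => ?_)
      rw [WittVector.map_coeff]
      exact Ideal.mem_map_of_mem q ((mem_wIdeal _).1 ((mem_smul_top hf _ _).1 (hval y) i) j))
  have hk : RingHom.ker q = 𝔟 := Ideal.mk_ker
  rw [← hk, ← ι_eq_zero_iff q, ← BC.map_tmul, h0, LinearMap.zero_apply]

/-- The descending chain `𝔞_{k+1} = p 𝔞_k + 𝔞_k ^ 2`. -/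
def chain (p : ℕ) (𝔞 : Ideal S) : ℕ → Ideal S
  | 0 => 𝔞
  | k + 1 => Ideal.span {(p : S)} * chain p 𝔞 k ⊔ chain p 𝔞 k * chain p 𝔞 k

theorem chain_le (𝔞 : Ideal S) (k : ℕ) : chain p 𝔞 k ≤ (Ideal.span {(p : S)} ⊔ 𝔞) ^ (k + 1) := by
  induction k with
  | zero => rw [pow_one]; exact le_sup_right
  | succ k ih =>
    refine sup_le ?_ ?_
    · rw [pow_succ']
      exact Ideal.mul_mono le_sup_left ih
    · rw [pow_succ']
      exact Ideal.mul_mono (ih.trans (Ideal.pow_le_self (Nat.succ_ne_zero k))) ih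

theorem exists_chain_eq_bot (hp : IsNilpotent (p : S)) {𝔞 : Ideal S} (h : IsNilpotent 𝔞) :
    ∃ N, chain p 𝔞 N = ⊥ := by
  obtain ⟨e, he⟩ := hp
  have hs : IsNilpotent (Ideal.span {(p : S)}) := ⟨e, by
    rw [Ideal.span_singleton_pow, he, Ideal.span_singleton_eq_bot.2 rfl]; rfl⟩
  obtain ⟨N, hN⟩ := (Commute.all (Ideal.span {(p : S)}) 𝔞).isNilpotent_add hs h
  rw [Submodule.add_eq_sup] at hN
  exact ⟨N, eq_bot_iff.2 ((chain_le 𝔞 N).trans ((Ideal.pow_le_pow_right N.le_succ).trans (by rw [hN]; rfl)))⟩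

/-- Rigidity along a nilpotent ideal. -/
theorem hom_eq_zero_of_nilpotent (hp : IsNilpotent (p : S)) {𝔞 : Ideal S} (h : IsNilpotent 𝔞)
    {D : Display3n p S P} (hD : IsDisplay D) {D' : Display3n p S P'} {ψ : P →ₗ[W] P'} (hψ : IsHom D D' ψ)
    (hval : ∀ x, ψ x ∈ wIdeal p 𝔞 • (⊤ : Submodule W P')) : ψ = 0 := by
  have := D'.finite
  have := D'.projective
  obtain ⟨N, hN⟩ := exists_chain_eq_bot hp h
  have hk : ∀ k x, ψ x ∈ wIdeal p (chain p 𝔞 k) • (⊤ : Submodule W P') := by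
    intro k
    induction k with
    | zero => exact hval
    | succ k ih => exact hom_mem_step hD hψ le_sup_right le_sup_left ih
  ext x
  exact eq_zero_of_mem_bot (hN ▸ hk N x)

theorem isHom_sub {D : Display3n p S P} {D' : Display3n p S P'} {ψ χ : P →ₗ[W] P'} (h : IsHom D D' ψ)
    (h' : IsHom D D' χ) : IsHom D D' (ψ - χ) := by
  refine isHom_of_Vinv D D' _ (fun q hq => sub_mem (h.mapsTo q hq) (h'.mapsTo q hq)) fun q => ?_
  rw [LinearMap.sub_apply, h.comm_Vinv, h'.comm_Vinv, ← map_sub]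
  rfl

end Groth.Agent.Disp23
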