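import Groth.Agent.Lib.Disp23.Hom

/-!
# Lifting a multiple of a homomorphism of displays along a nilpotent thickening
-/

universe u v v'

open W4c1extbt610 Dieu

noncomputable section

namespace Groth.Agent.Disp23

variable {p : ℕ} [Fact p.Prime] {S : Type u} [CommRing S]
variable {P : Type v} [AddCommGroup P] [Module (WittVector p S) P]
variable {P' : Type v'} [AddCommGroup P'] [Module (WittVector p S) P']

local notation "W" => WittVector p S

/-- `ψ` is a homomorphism modulo `W(𝔞)`. -/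
structure IsHomMod (D : Display3n p S P) (D' : Display3n p S P') (𝔞 : Ideal S) (ψ : P →ₗ[W] P') : Prop where
  mapsTo : ∀ y ∈ D.Q, ψ y ∈ D'.Q ⊔ wIdeal p 𝔞 • ⊤
  comm_F : ∀ x, ψ (D.F x) - D'.F (ψ x) ∈ wIdeal p 𝔞 • (⊤ : Submodule W P')
  comm_Vinv : ∀ (y : D.Q) (q : D'.Q), ψ y - (q : P') ∈ wIdeal p 𝔞 • (⊤ : Submodule W P') →
    ψ (D.Vinv y) - D'.Vinv q ∈ wIdeal p 𝔞 • (⊤ : Submodule W P')

/-- `V⁻¹` respects `W(𝔟) P`. -/
theorem Vinv_mem_wIdeal_smul (D' : Display3n p S P') {𝔟 : Ideal S} (y : D'.Q)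
    (hy : (y : P') ∈ wIdeal p 𝔟 • (⊤ : Submodule W P')) : D'.Vinv y ∈ wIdeal p 𝔟 • (⊤ : Submodule W P') := by
  have := D'.finite
  have := D'.projective
  obtain ⟨L, T, hLT, hQ⟩ := D'.exists_normal
  obtain ⟨t, e', g, he', hgL, hg⟩ := exists_coords hLT.symm
  obtain ⟨s, e, f, hf⟩ := exists_coords_top (A := W) (P := P')
  have hφ : ∀ φ : P' →ₗ[W] W, φ (y : P') ∈ wIdeal p 𝔟 := fun φ => by
    refine Submodule.smul_induction_on hy (fun r hr x _ => ?_) fun a b ha hb => ?_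
    · rw [map_smul, smul_eq_mul]
      exact Ideal.mul_mem_right _ _ hr
    · rw [map_add]
      exact add_mem ha hb
  have hgIV : ∀ j, g j (y : P') ∈ IV p S := (mem_sup_iff hLT.symm g e' he' hg hgL _).1 (hQ ▸ y.2)
  have hlQ : ∀ i, L.projection T hLT (e i) ∈ D'.Q := fun i =>
    hQ ▸ Submodule.mem_sup_left (Submodule.projection_apply_mem hLT _)
  have hy' : y = (∑ i, f i (y : P') • (⟨_, hlQ i⟩ : D'.Q)) +
      ∑ j, (⟨g j (y : P') • e' j, D'.IV_smul_le (Submodule.smul_mem_smul (hgIV j) Submodule.mem_top)⟩ : D'.Q) := by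
    refine Subtype.ext ?_
    rw [Submodule.coe_add, Submodule.coe_sum, Submodule.coe_sum]
    simp only [Submodule.coe_smul, ← hg]
    simp only [← map_smul, ← map_sum, ← hf]
    exact (Submodule.projection_add_projection_eq_self hLT _).symm
  rw [hy', map_add, map_sum, map_sum]
  refine add_mem (Submodule.sum_mem _ fun i _ => ?_) (Submodule.sum_mem _ fun j _ => ?_)
  · rw [D'.Vinv.map_smulₛₗ]
    exact Submodule.smul_mem_smul (frobenius_mem_wIdeal (hφ _)) Submodule.mem_top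
  · rw [show (⟨g j (y : P') • e' j, _⟩ : D'.Q) = ⟨WittVector.verschiebung (vshift (g j (y : P'))) • e' j,
      D'.IV_smul_le (Submodule.smul_mem_smul (verschiebung_mem_IV p S _) Submodule.mem_top)⟩ from
        Subtype.ext (congrArg (· • e' j) (verschiebung_vshift (hgIV j)).symm), D'.Vinv_verschiebung_smul]
    exact Submodule.smul_mem_smul (vshift_mem_wIdeal (hφ _)) Submodule.mem_top

theorem p_smul_mem {𝔞 𝔟 : Ideal S} (h2 : 𝔞 * 𝔞 ≤ 𝔟) (hp2 : Ideal.span {(p : S)} * 𝔞 ≤ 𝔟) {z : P'}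
    (hz : z ∈ wIdeal p 𝔞 • (⊤ : Submodule W P')) : (p : W) • z ∈ wIdeal p 𝔟 • (⊤ : Submodule W P') := by
  refine Submodule.smul_induction_on hz (fun r hr x _ => ?_) fun a b ha hb => by rw [smul_add]; exact add_mem ha hb
  rw [smul_smul]
  refine Submodule.smul_mem_smul ?_ Submodule.mem_top
  rw [wIdeal, RingHom.mem_ker, map_mul, map_natCast]
  refine p_mul_eq_zero_of_sqzero (𝔞 := 𝔞.map (Ideal.Quotient.mk 𝔟)) (fun a ha b hb => ?_) (fun a ha => ?_)
    ((mem_wIdeal _).2 fun i => ?_)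
  · obtain ⟨a', ha', rfl⟩ := (Ideal.mem_map_iff_of_surjective _ Ideal.Quotient.mk_surjective).1 ha
    obtain ⟨b', hb', rfl⟩ := (Ideal.mem_map_iff_of_surjective _ Ideal.Quotient.mk_surjective).1 hb
    rw [← map_mul, Ideal.Quotient.eq_zero_iff_mem]
    exact h2 (Ideal.mul_mem_mul ha' hb')
  · obtain ⟨a', ha', rfl⟩ := (Ideal.mem_map_iff_of_surjective _ Ideal.Quotient.mk_surjective).1 ha
    rw [← map_natCast (Ideal.Quotient.mk 𝔟) p, ← map_mul, Ideal.Quotient.eq_zero_iff_mem]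
    exact hp2 (Ideal.mul_mem_mul (Ideal.mem_span_singleton_self _) ha')
  · rw [WittVector.map_coeff]
    exact Ideal.mem_map_of_mem _ ((mem_wIdeal _).1 hr i)

theorem IsHomMod.step {D : Display3n p S P} {D' : Display3n p S P'} {𝔞 𝔟 : Ideal S} (h2 : 𝔞 * 𝔞 ≤ 𝔟)
    (hp2 : Ideal.span {(p : S)} * 𝔞 ≤ 𝔟) {ψ : P →ₗ[W] P'} (h : IsHomMod D D' 𝔞 ψ) :
    IsHomMod D D' 𝔟 ((p : W) • ψ) := by
  refine ⟨fun y hy => ?_, fun x => ?_, fun y q' hq' => ?_⟩
  · obtain ⟨q, hq, k, hk, hqk⟩ := Submodule.mem_sup.1 (h.mapsTo y hy)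
    rw [LinearMap.smul_apply, ← hqk, smul_add]
    exact Submodule.add_mem_sup (D'.Q.smul_mem _ hq) (p_smul_mem h2 hp2 hk)
  · rw [LinearMap.smul_apply, LinearMap.smul_apply, LinearMap.map_smulₛₗ, map_natCast, ← smul_sub]
    exact p_smul_mem h2 hp2 (h.comm_F x)
  · obtain ⟨q, hq, k, hk, hqk⟩ := Submodule.mem_sup.1 (h.mapsTo y y.2)
    have hyk : ψ (y : P) - q ∈ wIdeal p 𝔞 • (⊤ : Submodule W P') := by
      rw [← hqk, add_sub_cancel_left]; exact hk
    have h1 := p_smul_mem h2 hp2 (h.comm_Vinv y ⟨q, hq⟩ hyk)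
    have hsub : (((p : W) • (⟨q, hq⟩ : D'.Q) - q' : D'.Q) : P') ∈ wIdeal p 𝔟 • (⊤ : Submodule W P') := by
      rw [Submodule.coe_sub, Submodule.coe_smul]
      have := sub_mem hq' (p_smul_mem h2 hp2 hyk)
      rw [LinearMap.smul_apply, smul_sub] at this
      simpa using this
    have h2' := Vinv_mem_wIdeal_smul D' _ hsub
    rw [map_sub, D'.Vinv.map_smulₛₗ, map_natCast] at h2'
    have := add_mem h1 h2'
    rw [smul_sub, sub_add_sub_cancel] at this
    exact this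

theorem IsHomMod.isHom {D : Display3n p S P} {D' : Display3n p S P'} {ψ : P →ₗ[W] P'}
    (h : IsHomMod D D' ⊥ ψ) : IsHom D D' ψ := by
  have := D'.finite
  have := D'.projective
  have hm : ∀ y, y ∈ D.Q → ψ y ∈ D'.Q := fun y hy => by
    obtain ⟨q, hq, k, hk, hqk⟩ := Submodule.mem_sup.1 (h.mapsTo y hy)
    rw [eq_zero_of_mem_bot hk, add_zero] at hqk
    rwa [← hqk]
  exact isHom_of_Vinv D D' ψ hm fun y =>
    sub_eq_zero.1 (eq_zero_of_mem_bot (h.comm_Vinv y ⟨_, hm y y.2⟩ (by rw [sub_self]; exact zero_mem _)))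

section

variable {R : Type u} [CommRing R] (g : S →+* R)

local notation "Wg" => (WittVector.map g : WittVector p S →+* WittVector p R)

theorem ι_surjective (hg : Function.Surjective g) (z : BC Wg P') : ∃ m : P', BC.tmul Wg 1 m = z := by
  induction z using BC.induction_on with
  | zero => exact ⟨0, BC.tmul_zero _ _⟩
  | tmul w x =>
    obtain ⟨u, rfl⟩ := WittVector.map_surjective g hg w
    exact ⟨u • x, (BC.tmul_apply_eq _ u x).symm⟩
  | add a b ha hb =>
    obtain ⟨m, rfl⟩ := ha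
    obtain ⟨m', rfl⟩ := hb
    exact ⟨m + m', BC.tmul_add _ _ _ _⟩

variable {g} in
theorem mem_sup_of_tmul_mem {D' : Display3n p S P'} {DR' : Display3n p R (BC Wg P')}
    (hDR' : IsDispBaseChange g D' DR') {z : P'} (hz : BC.tmul Wg 1 z ∈ DR'.Q) :
    z ∈ D'.Q ⊔ wIdeal p (RingHom.ker g) • (⊤ : Submodule W P') := by
  have := D'.finite
  have := D'.projective
  obtain ⟨L, T, hLT, hQ⟩ := D'.exists_normal
  obtain ⟨t, e, φ, he, hφL, hφ⟩ := exists_coords hLT.symm
  rw [hDR'.Q_eq, LinearMap.mem_ker] at hz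
  rw [← Submodule.projection_add_projection_eq_self hLT z, hφ]
  refine add_mem (Submodule.mem_sup_left (hQ ▸ Submodule.mem_sup_left (Submodule.projection_apply_mem hLT z))) ?_
  refine Submodule.sum_mem _ fun i _ => ?_
  have h0 := constantCoeff_bcFun_eq_zero g D'.Q (φ i)
    (fun y hy => (mem_sup_iff hLT.symm φ e he hφ hφL y).1 (hQ ▸ hy) i) hz
  rw [bcFun_tmul, one_mul] at h0
  have hker : g ((φ i z).coeff 0) = 0 := (WittVector.map_coeff g _ 0).symm.trans h0
  have hIV : φ i z - WittVector.teichmuller p ((φ i z).coeff 0) ∈ IV p S := by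
    rw [IV_eq_ker, RingHom.mem_ker, map_sub]
    exact sub_eq_zero.2 (WittVector.teichmuller_coeff_zero p _).symm
  rw [← sub_add_cancel (φ i z) (WittVector.teichmuller p ((φ i z).coeff 0)), add_smul]
  exact Submodule.add_mem_sup (D'.IV_smul_le (Submodule.smul_mem_smul hIV Submodule.mem_top))
    (Submodule.smul_mem_smul (teichmuller_mem_wIdeal ((RingHom.mem_ker).2 hker)) Submodule.mem_top)

variable {g} in
/-- Some `p`-power multiple of a homomorphism over `R` lifts. -/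
theorem exists_lift_p_pow (hp : IsNilpotent (p : S)) (hg : Function.Surjective g)
    (hker : IsNilpotent (RingHom.ker g)) {D : Display3n p S P} {D' : Display3n p S P'}
    {DR : Display3n p R (BC Wg P)} (hDR : IsDispBaseChange g D DR)
    {DR' : Display3n p R (BC Wg P')} (hDR' : IsDispBaseChange g D' DR')
    (χ : BC Wg P →ₗ[WittVector p R] BC Wg P') (hχ : IsHom DR DR' χ) :
    ∃ (n : ℕ) (ψ : P →ₗ[W] P'), IsHom D D' ψ ∧ BC.map Wg ψ = ((p : WittVector p R) ^ n) • χ := by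
  have := D.finite
  have := D.projective
  have := D'.finite
  have := D'.projective
  obtain ⟨t, e, f, hf⟩ := exists_coords_top (A := W) (P := P)
  choose m hm using fun k => ι_surjective g hg (χ (BC.tmul Wg 1 (e k)))
  let ψ₀ : P →ₗ[W] P' := ∑ k, (f k).smulRight (m k)
  have hψ₀ : ∀ x, BC.tmul Wg 1 (ψ₀ x) = χ (BC.tmul Wg 1 x) := fun x => by
    conv_rhs => rw [hf x, ← BC.ι_apply, map_sum, map_sum]
    rw [← BC.ι_apply, LinearMap.sum_apply, map_sum]
    refine Finset.sum_congr rfl fun k _ => ?_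
    rw [LinearMap.smulRight_apply, LinearMap.map_smulₛₗ, LinearMap.map_smulₛₗ, map_smul, BC.ι_apply, BC.ι_apply, hm]
  have hmap : BC.map Wg ψ₀ = χ := BC.ext _ fun x => by rw [BC.map_tmul, hψ₀]
  have hmem : ∀ {a b : P'}, BC.tmul Wg 1 a = BC.tmul Wg 1 b →
      a - b ∈ wIdeal p (RingHom.ker g) • (⊤ : Submodule W P') := fun {a b} h => by
    rw [← ι_eq_zero_iff, ← BC.ι_apply, map_sub, BC.ι_apply, BC.ι_apply, h, sub_self]
  have h0 : IsHomMod D D' (RingHom.ker g) ψ₀ := by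
    refine ⟨fun y hy => mem_sup_of_tmul_mem hDR' ?_, fun x => hmem ?_, fun y q hq => hmem ?_⟩
    · rw [hψ₀]; exact hχ.mapsTo _ (tmul_mem_Q hDR 1 hy)
    · have h1 := hχ.comm_F (BC.tmul Wg 1 x)
      rw [hDR.F_tmul, map_one, ← hψ₀, ← hψ₀, hDR'.F_tmul, map_one] at h1
      exact h1
    · rw [← ι_eq_zero_iff, ← BC.ι_apply, map_sub, BC.ι_apply, BC.ι_apply, sub_eq_zero, hψ₀] at hq
      have hyR := tmul_mem_Q hDR 1 y.2
      have hqR := tmul_mem_Q hDR' 1 q.2
      have h1 := hχ.comm_Vinv ⟨_, hyR⟩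
      rw [hDR.Vinv_tmul, map_one, ← hψ₀,
        show (⟨χ (BC.tmul Wg 1 (y : P)), hχ.mapsTo _ hyR⟩ : DR'.Q) = ⟨_, hqR⟩ from Subtype.ext hq,
        hDR'.Vinv_tmul, map_one] at h1
      exact h1
  obtain ⟨N, hN⟩ := exists_chain_eq_bot hp hker
  have hk : ∀ k, IsHomMod D D' (chain p (RingHom.ker g) k) ((p : W) ^ k • ψ₀) := by
    intro k
    induction k with
    | zero => rw [pow_zero, one_smul]; exact h0
    | succ k ih =>
      rw [pow_succ', mul_smul]
      exact ih.step le_sup_right le_sup_left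
  refine ⟨N, (p : W) ^ N • ψ₀, (hN ▸ hk N).isHom, BC.ext _ fun x => ?_⟩
  rw [BC.map_tmul, ← BC.ι_apply, LinearMap.smul_apply, LinearMap.map_smulₛₗ, BC.ι_apply, hψ₀, map_pow, map_natCast,
    LinearMap.smul_apply]

end

end Groth.Agent.Disp23
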