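import Groth.Agent.Lib.Disp23.Core
import Mathlib.RingTheory.Nakayama
import Mathlib.RingTheory.Ideal.Quotient.Basic
import Mathlib.LinearAlgebra.FiniteDimensional.Basic
import Mathlib.Algebra.CharP.Basic
import Mathlib.Algebra.CharP.Frobenius

/-!
# The `σ`-linear isomorphism `V⁻¹ ⊕ F` of a normal decomposition
-/

universe u v w

open W4c1extbt610 Dieu

noncomputable section

namespace Groth.Agent.Disp23

section BC

variable {A : Type u} {B : Type v} [CommRing A] [CommRing B] (g : A →+* B)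
variable {P : Type w} [AddCommGroup P] [Module A P]

/-- The scalar extension of a functional. -/
def bcFun (f : P →ₗ[A] A) : BC g P →ₗ[B] B := BC.lift g ((semilinearOfRingHom g).comp f)

@[simp] theorem bcFun_tmul (f : P →ₗ[A] A) (b : B) (x : P) : bcFun g f (BC.tmul g b x) = b * g (f x) := by
  rw [bcFun, BC.lift_tmul, LinearMap.comp_apply, semilinearOfRingHom_apply, smul_eq_mul]

variable {ι : Type*} [Fintype ι] {e : ι → P} {f : ι → P →ₗ[A] A}

theorem bc_expand (hf : ∀ x, x = ∑ i, f i x • e i) (z : BC g P) :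
    z = ∑ i, bcFun g (f i) z • BC.tmul g 1 (e i) := by
  suffices h : (LinearMap.id : BC g P →ₗ[B] BC g P) = ∑ i, (bcFun g (f i)).smulRight (BC.tmul g 1 (e i)) by
    simpa using LinearMap.congr_fun h z
  refine BC.ext g fun x => ?_
  simp only [LinearMap.id_apply, LinearMap.coe_sum, Finset.sum_apply, LinearMap.smulRight_apply, bcFun_tmul, one_mul]
  conv_lhs => rw [hf x, ← BC.ι_apply, map_sum]
  simp only [LinearMap.map_smulₛₗ, BC.ι_apply]

theorem bc_eq_zero (hf : ∀ x, x = ∑ i, f i x • e i) {z : BC g P} (h : ∀ i, bcFun g (f i) z = 0) : z = 0 := by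
  rw [bc_expand g hf z]
  simp [h]

theorem bc_mem_smul_top (hf : ∀ x, x = ∑ i, f i x • e i) (J : Ideal B) (z : BC g P) :
    z ∈ J • (⊤ : Submodule B (BC g P)) ↔ ∀ i, bcFun g (f i) z ∈ J := by
  refine ⟨fun hz i => ?_, fun h => ?_⟩
  · refine Submodule.smul_induction_on hz (fun r hr x _ => ?_) fun a b ha hb => ?_
    · rw [map_smul, smul_eq_mul]
      exact J.mul_mem_right _ hr
    · rw [map_add]
      exact add_mem ha hb
  · rw [bc_expand g hf z]
    exact Submodule.sum_mem _ fun i _ => Submodule.smul_mem_smul (h i) Submodule.mem_top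

theorem mem_smul_top (hf : ∀ x, x = ∑ i, f i x • e i) (J : Ideal A) (z : P) :
    z ∈ J • (⊤ : Submodule A P) ↔ ∀ i, f i z ∈ J := by
  refine ⟨fun hz i => ?_, fun h => ?_⟩
  · refine Submodule.smul_induction_on hz (fun r hr x _ => ?_) fun a b ha hb => ?_
    · rw [map_smul, smul_eq_mul]
      exact J.mul_mem_right _ hr
    · rw [map_add]
      exact add_mem ha hb
  · rw [hf z]
    exact Submodule.sum_mem _ fun i _ => Submodule.smul_mem_smul (h i) Submodule.mem_top

/-- A finite projective module has coordinates. -/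
theorem exists_coords_top [Module.Finite A P] [Module.Projective A P] :
    ∃ (t : ℕ) (e : Fin t → P) (f : Fin t → P →ₗ[A] A), ∀ x, x = ∑ i, f i x • e i := by
  classical
  obtain ⟨t, π, hπ⟩ := Module.Finite.exists_fin' A P
  obtain ⟨s, hs⟩ := Module.projective_lifting_property π LinearMap.id hπ
  refine ⟨t, fun i => π (Pi.single i 1), fun i => (LinearMap.proj i).comp s, fun x => ?_⟩
  simp only [LinearMap.comp_apply, LinearMap.proj_apply, ← map_smul, ← map_sum]
  rw [← pi_eq_sum_univ' (s x)]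
  exact (LinearMap.congr_fun hs x).symm

/-- The kernel of the linearisation of a semilinear epimorphism dies at a point fixed by `σ`. -/
theorem push_eq_zero {A : Type u} [CommRing A] {K : Type w} [Field K] (σ : A →+* A) (π : A →+* K) (F : K →+* K)
    (hF : F.comp π = π.comp σ) {P : Type v} [AddCommGroup P] [Module A P] {t : ℕ} {e : Fin t → P}
    {f : Fin t → P →ₗ[A] A} (hf : ∀ x, x = ∑ i, f i x • e i) (φ : P →ₛₗ[σ] P)
    (hφ : Submodule.span A (Set.range φ) = ⊤) {z : BC σ P} (hz : BC.lift σ φ z = 0) : BC.push σ π z = 0 := by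
  have hspanB : Submodule.span K (Set.range fun j => BC.tmul π 1 (e j)) = ⊤ := eq_top_iff.2 fun z _ => by
    rw [bc_expand π hf z]
    exact Submodule.sum_mem _ fun j _ => Submodule.smul_mem _ _ (Submodule.subset_span ⟨j, rfl⟩)
  have hspanA : Submodule.span K (Set.range fun j => BC.tmul (π.comp σ) 1 (e j)) = ⊤ :=
    eq_top_iff.2 fun z _ => by
      rw [bc_expand (π.comp σ) hf z]
      exact Submodule.sum_mem _ fun j _ => Submodule.smul_mem _ _ (Submodule.subset_span ⟨j, rfl⟩)
  have : Module.Finite K (BC π P) := ⟨⟨(Set.finite_range _).toFinset, by rw [Set.Finite.coe_toFinset, hspanB]⟩⟩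
  have : Module.Finite K (BC (π.comp σ) P) :=
    ⟨⟨(Set.finite_range _).toFinset, by rw [Set.Finite.coe_toFinset, hspanA]⟩⟩
  let j : BC π P →ₛₗ[F] BC (π.comp σ) P :=
    { toFun := fun y => BC.castHom hF (BC.push π F y)
      map_add' := fun y₁ y₂ => by rw [map_add, map_add]
      map_smul' := fun c y => by rw [LinearMap.map_smulₛₗ, map_smul] }
  let b := Module.finBasis K (BC π P)
  have hle' : Module.finrank K (BC (π.comp σ) P) ≤ Module.finrank K (BC π P) := by
    have htop : Submodule.span K (Set.range fun k => j (b k)) = ⊤ := by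
      rw [eq_top_iff, ← hspanA, Submodule.span_le]
      rintro _ ⟨k, rfl⟩
      have hj : BC.tmul (π.comp σ) 1 (e k) = j (BC.tmul π 1 (e k)) := by
        show _ = BC.castHom hF (BC.push π F (BC.tmul π 1 (e k)))
        rw [BC.push_tmul, BC.castHom_tmul, map_one]
      show BC.tmul (π.comp σ) 1 (e k) ∈ _
      rw [hj, ← b.sum_repr (BC.tmul π 1 (e k)), map_sum]
      refine Submodule.sum_mem _ fun l _ => ?_
      rw [LinearMap.map_smulₛₗ]
      exact Submodule.smul_mem _ _ (Submodule.subset_span ⟨l, rfl⟩)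
    rw [← finrank_top K (BC (π.comp σ) P), ← htop]
    exact (finrank_range_le_card fun k => j (b k)).trans (Fintype.card_fin _).le
  let φ' : P →ₛₗ[π.comp σ] BC π P :=
    { toFun := fun x => BC.ι π P (φ x)
      map_add' := fun x₁ x₂ => by rw [map_add, map_add]
      map_smul' := fun c x => by rw [LinearMap.map_smulₛₗ, LinearMap.map_smulₛₗ, RingHom.comp_apply] }
  let Ψ := BC.lift (π.comp σ) φ'
  have hΨs : Function.Surjective Ψ := by
    rw [← LinearMap.range_eq_top, eq_top_iff, ← hspanB, Submodule.span_le]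
    rintro _ ⟨k, rfl⟩
    have h : ∀ x ∈ Submodule.span A (Set.range φ), BC.ι π P x ∈ LinearMap.range Ψ := by
      intro x hx
      refine Submodule.span_induction ?_ ?_ ?_ ?_ hx
      · rintro _ ⟨y, rfl⟩
        exact ⟨BC.tmul _ 1 y, by rw [BC.lift_tmul, one_smul]; rfl⟩
      · rw [map_zero]; exact zero_mem _
      · intro a c _ _ ha hc; rw [map_add]; exact add_mem ha hc
      · intro a x _ hx; rw [LinearMap.map_smulₛₗ]; exact Submodule.smul_mem _ _ hx
    exact h (e k) (by rw [hφ]; exact Submodule.mem_top)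
  have hrange : Module.finrank K (BC π P) ≤ Module.finrank K (BC (π.comp σ) P) :=
    Ψ.finrank_le_finrank_of_surjective hΨs
  have hΨi : Function.Injective Ψ :=
    (LinearMap.injective_iff_surjective_of_finrank_eq_finrank (le_antisymm hle' hrange)).2 hΨs
  have hθ : ∀ u : BC σ P, Ψ (BC.push σ π u) = BC.ι π P (BC.lift σ φ u) := fun u => by
    induction u using BC.induction_on with
    | zero => simp
    | tmul c x =>
      rw [BC.push_tmul, BC.lift_tmul, BC.lift_tmul, LinearMap.map_smulₛₗ]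
      rfl
    | add a c ha hc => simp only [map_add, ha, hc]
  exact hΨi (by rw [hθ, hz, map_zero, map_zero])

end BC

section Witt

variable (p : ℕ) [Fact p.Prime] (R : Type u) [CommRing R]

theorem frobenius_sub_pow_mem (x : WittVector p R) :
    WittVector.frobenius x - x ^ p ∈ IV p R ⊔ Ideal.span {(p : WittVector p R)} := by
  have hg : ∀ y : WittVector p R, WittVector.ghostComponent 0 y = y.coeff 0 := fun y => by
    rw [WittVector.ghostComponent_apply, wittPolynomial_zero, MvPolynomial.aeval_X]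
  have h1 : WittVector.constantCoeff (WittVector.frobenius x) = x.coeff 0 ^ p + (p : R) * x.coeff 1 := by
    rw [show WittVector.constantCoeff (WittVector.frobenius x) = (WittVector.frobenius x).coeff 0 from rfl, ← hg,
      WittVector.ghostComponent_frobenius, WittVector.ghostComponent_apply, aeval_wittPolynomial,
      Finset.sum_range_succ, Finset.sum_range_one]
    simp
  have h2 : WittVector.frobenius x - x ^ p - (p : WittVector p R) * WittVector.teichmuller p (x.coeff 1) ∈ IV p R := by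
    rw [IV_eq_ker, RingHom.mem_ker, map_sub, map_sub, map_pow, map_mul, map_natCast, h1]
    rw [show WittVector.constantCoeff x = x.coeff 0 from rfl,
      show WittVector.constantCoeff (WittVector.teichmuller p (x.coeff 1)) = x.coeff 1 from
        WittVector.teichmuller_coeff_zero p _]
    ring
  have := Submodule.add_mem_sup h2
    (Ideal.mul_mem_right (WittVector.teichmuller p (x.coeff 1)) _
      (Ideal.mem_span_singleton_self (p : WittVector p R)))
  rwa [sub_add_cancel] at this

variable {R}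

theorem isAdicComplete_of_isNilpotent (hp : IsNilpotent (p : R)) : IsAdicComplete (Ideal.span {(p : R)}) R := by
  obtain ⟨N, hN⟩ := hp
  have h0 : ∀ n, N ≤ n → (Ideal.span {(p : R)} ^ n • ⊤ : Submodule R R) = ⊥ := fun n hn => by
    rw [Ideal.span_singleton_pow, pow_eq_zero_of_le hn hN]
    simp
  refine { haus' := fun x hx => ?_, prec' := fun f hf => ⟨f N, fun n => ?_⟩ }
  · have := hx N
    rwa [h0 N le_rfl, SModEq.bot] at this
  · rcases le_total n N with hn | hn
    · exact hf hn
    · have := hf hn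
      rw [h0 N le_rfl, SModEq.bot] at this
      rw [this]

theorem sup_le_jacobson (hp : IsNilpotent (p : R)) :
    IV p R ⊔ Ideal.span {(p : WittVector p R)} ≤ Ideal.jacobson ⊥ := by
  have := isAdicComplete_of_isNilpotent p hp
  have hIV : IV p R ≤ Ideal.jacobson ⊥ := (henselianRing_IV p R).jac
  refine sup_le hIV (Ideal.span_le.2 fun x hx => ?_)
  rw [Set.mem_singleton_iff] at hx
  subst hx
  obtain ⟨N, hN⟩ := hp
  rw [SetLike.mem_coe, Ideal.jacobson, Ideal.mem_sInf]
  rintro J ⟨hJ, hJm⟩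
  refine hJm.isPrime.mem_of_pow_mem N ?_
  have hpow : (p : WittVector p R) ^ N ∈ Ideal.jacobson (⊥ : Ideal (WittVector p R)) := hIV (by
    rw [IV_eq_ker, RingHom.mem_ker, map_pow, map_natCast, hN])
  rw [Ideal.jacobson, Ideal.mem_sInf] at hpow
  exact hpow ⟨hJ, hJm⟩

end Witt

section Key

variable {p : ℕ} [Fact p.Prime] {R : Type u} [CommRing R]
variable {P : Type v} [AddCommGroup P] [Module (WittVector p R) P]

local notation "W" => WittVector p R
local notation "σ" => (WittVector.frobenius : WittVector p R →+* WittVector p R)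

/-- A `σ`-linear epimorphism of a finite projective module is a `σ`-linear isomorphism. -/
theorem isSemilinIso_of_span [Module.Finite W P] [Module.Projective W P]
    (hjac : IV p R ⊔ Ideal.span {(p : W)} ≤ Ideal.jacobson ⊥) (φ : P →ₛₗ[σ] P)
    (hφ : Submodule.span W (Set.range φ) = ⊤) : IsSemilinIso σ φ := by
  obtain ⟨t, e, f, hf⟩ := exists_coords_top (A := W) (P := P)
  have hsurj : Function.Surjective (BC.lift σ φ) := by
    rw [← LinearMap.range_eq_top, eq_top_iff, ← hφ, Submodule.span_le]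
    rintro _ ⟨x, rfl⟩
    exact ⟨BC.tmul σ 1 x, by rw [BC.lift_tmul, one_smul]⟩
  refine ⟨(injective_iff_map_eq_zero (BC.lift σ φ)).2 fun z hz => ?_, hsurj⟩
  obtain ⟨s, hs⟩ := Module.projective_lifting_property (BC.lift σ φ) LinearMap.id hsurj
  let ee : BC σ P →ₗ[W] BC σ P := LinearMap.id - s.comp (BC.lift σ φ)
  have hee : ∀ y, BC.lift σ φ (ee y) = 0 := fun y => by
    simp only [ee, LinearMap.sub_apply, LinearMap.id_apply, LinearMap.comp_apply, map_sub]
    rw [← LinearMap.comp_apply (BC.lift σ φ) s, hs, LinearMap.id_apply, sub_self]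
  have key : ∀ y i, bcFun σ (f i) (ee y) ∈ Ideal.jacobson (⊥ : Ideal W) := by
    intro y i
    rw [Ideal.jacobson, Ideal.mem_sInf]
    rintro 𝔪 ⟨-, h𝔪⟩
    let _ : Field (W ⧸ 𝔪) := Ideal.Quotient.field 𝔪
    let π : W →+* W ⧸ 𝔪 := Ideal.Quotient.mk 𝔪
    have hle : IV p R ⊔ Ideal.span {(p : W)} ≤ 𝔪 := hjac.trans (sInf_le ⟨bot_le, h𝔪⟩)
    have hp0 : (p : W ⧸ 𝔪) = 0 := by
      rw [← map_natCast π p]
      exact Ideal.Quotient.eq_zero_iff_mem.2 (hle (Submodule.mem_sup_right (Ideal.mem_span_singleton_self _)))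
    have : CharP (W ⧸ 𝔪) p := (CharP.charP_iff_prime_eq_zero Fact.out).2 hp0
    have hπσ : (frobenius (W ⧸ 𝔪) p).comp π = π.comp σ := by
      ext x
      rw [RingHom.comp_apply, RingHom.comp_apply, frobenius_def, ← map_pow, eq_comm, Ideal.Quotient.eq]
      exact hle (frobenius_sub_pow_mem p R x)
    have h0 : BC.push σ π (ee y) = 0 :=
      push_eq_zero σ π (frobenius (W ⧸ 𝔪) p) hπσ hf φ hφ (hee y)
    have hcomm : ∀ u : BC σ P, bcFun (π.comp σ) (f i) (BC.push σ π u) = π (bcFun σ (f i) u) := fun u => by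
      induction u using BC.induction_on with
      | zero => simp
      | tmul c x => rw [BC.push_tmul, bcFun_tmul, bcFun_tmul, map_mul]; rfl
      | add a c ha hc => simp only [map_add, ha, hc]
    rw [← Ideal.Quotient.eq_zero_iff_mem, ← hcomm, h0, map_zero]
  have hrange : LinearMap.range ee ≤ Ideal.jacobson (⊥ : Ideal W) • LinearMap.range ee := by
    rintro _ ⟨y, rfl⟩
    have hmem : ee y ∈ Ideal.jacobson (⊥ : Ideal W) • (⊤ : Submodule W (BC σ P)) :=
      (bc_mem_smul_top σ hf _ _).2 (key y)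
    have hid : ee (ee y) = ee y := by
      show ee y - s (BC.lift σ φ (ee y)) = ee y
      rw [hee, map_zero, sub_zero]
    have := Submodule.mem_map_of_mem (f := ee) hmem
    rwa [Submodule.map_smul'', Submodule.map_top, hid] at this
  have hfg : (LinearMap.range ee).FG := by
    have : Module.Finite W (BC σ P) := ⟨⟨(Set.finite_range fun j => BC.tmul σ 1 (e j)).toFinset, by
      rw [Set.Finite.coe_toFinset, eq_top_iff]
      intro z _
      rw [bc_expand σ hf z]
      exact Submodule.sum_mem _ fun j _ => Submodule.smul_mem _ _ (Submodule.subset_span ⟨j, rfl⟩)⟩⟩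
    rw [LinearMap.range_eq_map]
    exact Module.Finite.fg_top.map ee
  have hbot := Submodule.eq_bot_of_le_smul_of_le_jacobson_bot _ _ hfg hrange le_rfl
  have hz' : ee z ∈ LinearMap.range ee := ⟨z, rfl⟩
  rw [hbot, Submodule.mem_bot] at hz'
  rw [← hz']
  show z = z - s (BC.lift σ φ z)
  rw [hz, map_zero, sub_zero]

/-- `V⁻¹ ⊕ F` attached to a normal decomposition of a 3n-display. -/
theorem exists_phi (D : Display3n p R P) {T L : Submodule W P} (h : IsCompl T L) (hL : L ≤ D.Q) :
    ∃ φ : P →ₛₗ[σ] P, (∀ (l : P) (hl : l ∈ L), φ l = D.Vinv ⟨l, hL hl⟩) ∧ (∀ t ∈ T, φ t = D.F t) ∧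
      (D.Q = L ⊔ IV p R • T → Submodule.span W (Set.range φ) = ⊤) := by
  let ιL : P →ₗ[W] D.Q :=
    (L.projection T h.symm).codRestrict D.Q (fun x => hL (Submodule.projection_apply_mem h.symm x))
  let φ : P →ₛₗ[σ] P := D.Vinv.comp ιL + D.F.comp (T.projection L h)
  have hφL : ∀ (l : P) (hl : l ∈ L), φ l = D.Vinv ⟨l, hL hl⟩ := by
    intro l hl
    have h1 : ιL l = ⟨l, hL hl⟩ := Subtype.ext (Submodule.projection_apply_left h.symm ⟨l, hl⟩)
    show D.Vinv (ιL l) + D.F (T.projection L h l) = _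
    rw [h1, (Submodule.projection_apply_eq_zero_iff h).2 hl, map_zero, add_zero]
  have hφT : ∀ t ∈ T, φ t = D.F t := by
    intro t ht
    have h1 : ιL t = 0 := Subtype.ext ((Submodule.projection_apply_eq_zero_iff h.symm).2 ht)
    show D.Vinv (ιL t) + D.F (T.projection L h t) = _
    rw [h1, map_zero, zero_add, Submodule.projection_apply_left h ⟨t, ht⟩]
  refine ⟨φ, hφL, hφT, fun hQ => ?_⟩
  rw [eq_top_iff, ← D.span_range_Vinv, Submodule.span_le]
  rintro _ ⟨⟨y, hy⟩, rfl⟩
  have hy' := hy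
  rw [hQ, Submodule.mem_sup] at hy'
  obtain ⟨l, hl, z, hz, rfl⟩ := hy'
  obtain ⟨hzQ, hgz⟩ : ∃ hq : z ∈ D.Q, D.Vinv ⟨z, hq⟩ ∈ Submodule.span W (Set.range φ) := by
    refine Submodule.smul_induction_on (p := fun z => ∃ hq : z ∈ D.Q, D.Vinv ⟨z, hq⟩ ∈ Submodule.span W (Set.range φ))
      hz (fun r hr x hx => ?_) (fun a b ⟨ha, ha'⟩ ⟨hb, hb'⟩ => ⟨add_mem ha hb, ?_⟩)
    · obtain ⟨u, rfl⟩ := exists_verschiebung_eq hr
      refine ⟨_, (D.Vinv_verschiebung_smul u x).symm ▸ Submodule.smul_mem _ u ?_⟩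
      exact Submodule.subset_span ⟨x, hφT x hx⟩
    · rw [show (⟨a + b, add_mem ha hb⟩ : D.Q) = ⟨a, ha⟩ + ⟨b, hb⟩ from rfl, map_add]
      exact add_mem ha' hb'
  rw [show (⟨l + z, hy⟩ : D.Q) = ⟨l, hL hl⟩ + ⟨z, hzQ⟩ from rfl, map_add]
  exact add_mem (Submodule.subset_span ⟨l, hφL l hl⟩) hgz

/-- A semilinear map out of `Q` is determined by its values on generators. -/
theorem vSharp_unique (D : Display3n p R P) (Vs Vs' : P →ₗ[W] BC σ P) (h : IsVSharp D Vs) (h' : IsVSharp D Vs') :
    Vs = Vs' := by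
  refine LinearMap.ext_on_range D.span_range_Vinv fun y => ?_
  have e₁ := h.app_smul_Vinv 1 y
  have e₂ := h'.app_smul_Vinv 1 y
  rw [one_smul] at e₁ e₂
  rw [e₁, e₂]

/-- Existence of `V♯`. -/
theorem exists_vSharp (hp : IsNilpotent (p : R)) (D : Display3n p R P) : ∃ Vs : P →ₗ[W] BC σ P, IsVSharp D Vs := by
  have := D.finite
  have := D.projective
  obtain ⟨L, T, hLT, hQ⟩ := D.exists_normal
  have hL : L ≤ D.Q := hQ ▸ le_sup_left
  obtain ⟨φ, hφL, hφT, hφs⟩ := exists_phi D hLT.symm hL
  have hiso := isSemilinIso_of_span (sup_le_jacobson p hp) φ (hφs hQ)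
  let e := LinearEquiv.ofBijective (BC.lift σ φ) hiso
  let μ : P →ₗ[W] P := L.projection T hLT + (p : W) • T.projection L hLT.symm
  let Vs : P →ₗ[W] BC σ P := (BC.map σ μ).comp e.symm.toLinearMap
  have hVs : ∀ x, Vs (φ x) = BC.tmul σ 1 (μ x) := fun x => by
    have : e.symm (φ x) = BC.tmul σ 1 x :=
      e.injective (by rw [e.apply_symm_apply]; show φ x = BC.lift σ φ (BC.tmul σ 1 x); rw [BC.lift_tmul, one_smul])
    show BC.map σ μ (e.symm (φ x)) = _
    rw [this, BC.map_tmul]
  have hpt : ∀ x : P, (p : W) • BC.tmul σ (1 : W) x = BC.tmul σ 1 ((p : W) • x) := fun x => by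
    rw [← BC.tmul_apply_eq, map_natCast, BC.smul_tmul, mul_one]
  let ιQ : D.Q →ₛₗ[σ] BC σ P := (BC.ι σ P).comp D.Q.subtype
  have hV : Vs.comp D.Vinv = ιQ := by
    refine Vinv_ext D hQ _ _ (fun l hl hq => ?_) (fun u x hx hq => ?_)
    · show Vs (D.Vinv ⟨l, hq⟩) = BC.tmul σ 1 l
      rw [show D.Vinv ⟨l, hq⟩ = φ l from (hφL l hl).symm, hVs]
      congr 1
      show L.projection T hLT l + (p : W) • T.projection L hLT.symm l = l
      rw [Submodule.projection_apply_left hLT ⟨l, hl⟩, (Submodule.projection_apply_eq_zero_iff hLT.symm).2 hl,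
        smul_zero, add_zero]
    · show Vs (D.Vinv ⟨_, hq⟩) = BC.tmul σ 1 (WittVector.verschiebung u • x)
      rw [D.Vinv_verschiebung_smul u x, map_smul, ← hφT x hx, hVs, ← BC.tmul_apply_eq, frobenius_verschiebung',
        show μ x = (p : W) • x from ?_, ← hpt, BC.smul_tmul, BC.smul_tmul, mul_one, mul_comm]
      show L.projection T hLT x + (p : W) • T.projection L hLT.symm x = _
      rw [(Submodule.projection_apply_eq_zero_iff hLT).2 hx, Submodule.projection_apply_left hLT.symm ⟨x, hx⟩,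
        zero_add]
  refine ⟨Vs, ⟨fun w x => ?_, fun w y => ?_⟩⟩
  · have h1 := D.Vinv_verschiebung_smul 1 x
    rw [one_smul] at h1
    rw [map_smul, ← h1]
    have h2 : ∀ hq, Vs (D.Vinv ⟨WittVector.verschiebung (1 : W) • x, hq⟩) =
        BC.tmul σ 1 (WittVector.verschiebung (1 : W) • x) := fun hq => LinearMap.congr_fun hV ⟨_, hq⟩
    rw [h2, ← BC.tmul_apply_eq, frobenius_verschiebung', mul_one, BC.smul_tmul, BC.smul_tmul, mul_comm]
  · rw [map_smul, show Vs (D.Vinv y) = BC.tmul σ 1 (y : P) from LinearMap.congr_fun hV y, BC.smul_tmul, mul_one]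

end Key

end Groth.Agent.Disp23
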