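import Groth.Agent.Lib.Disp23.SqZero
import Mathlib.LinearAlgebra.Basis.Basic

/-!
# Lifting maps commuting with Frobenius-semilinear endomorphisms
-/

universe u v w z

open W4c1extbt610

noncomputable section

namespace Groth.Agent.Disp23

variable {p : ℕ} [Fact p.Prime] {S : Type u} [CommRing S]

local notation "W" => WittVector p S
local notation "σ" => (WittVector.frobenius : WittVector p S →+* WittVector p S)

theorem frobenius_mem_wIdeal_pow {k : ℕ} (hk : 1 ≤ k) {x : W} (hx : x ∈ wIdeal p (Ideal.span {(p : S) ^ k})) :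
    WittVector.frobenius x ∈ wIdeal p (Ideal.span {(p : S) ^ (k + 1)}) := by
  rw [wIdeal, RingHom.mem_ker, map_frobenius']
  refine frobenius_eq_zero_of_sqzero
    (𝔞 := (Ideal.span {(p : S) ^ k}).map (Ideal.Quotient.mk (Ideal.span {(p : S) ^ (k + 1)})))
    (fun a ha b hb => ?_) (fun a ha => ?_) ((mem_wIdeal _).2 fun i => ?_)
  · obtain ⟨a', ha', rfl⟩ := (Ideal.mem_map_iff_of_surjective _ Ideal.Quotient.mk_surjective).1 ha
    obtain ⟨b', hb', rfl⟩ := (Ideal.mem_map_iff_of_surjective _ Ideal.Quotient.mk_surjective).1 hb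
    rw [← map_mul, Ideal.Quotient.eq_zero_iff_mem]
    rw [Ideal.mem_span_singleton] at ha' hb' ⊢
    exact (pow_dvd_pow (p : S) (show k + 1 ≤ k + k by omega)).trans (pow_add (p : S) k k ▸ mul_dvd_mul ha' hb')
  · obtain ⟨a', ha', rfl⟩ := (Ideal.mem_map_iff_of_surjective _ Ideal.Quotient.mk_surjective).1 ha
    rw [← map_natCast (Ideal.Quotient.mk (Ideal.span {(p : S) ^ (k + 1)})) p, ← map_mul,
      Ideal.Quotient.eq_zero_iff_mem]
    rw [Ideal.mem_span_singleton] at ha' ⊢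
    exact pow_succ' (p : S) k ▸ mul_dvd_mul_left _ ha'
  · rw [WittVector.map_coeff]
    exact Ideal.mem_map_of_mem _ ((mem_wIdeal _).1 hx i)

theorem exists_frobenius_pow_eq_zero (hp : IsNilpotent (p : S)) {𝔞 : Ideal S} {N : ℕ}
    (hN : ∀ a ∈ 𝔞, a ^ N = 0) : ∃ m : ℕ, ∀ x ∈ wIdeal p 𝔞, (σ ^ m) x = 0 := by
  obtain ⟨e, he⟩ := hp
  have h1 : ∀ x ∈ wIdeal p 𝔞, (σ ^ N) x ∈ wIdeal p (Ideal.span {(p : S) ^ 1}) := by
    intro x hx
    rw [pow_one, mem_wIdeal]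
    intro i
    rw [← Ideal.Quotient.eq_zero_iff_mem]
    rcases subsingleton_or_nontrivial (S ⧸ Ideal.span {(p : S)}) with hs | hs
    · exact Subsingleton.elim _ _
    have : CharP (S ⧸ Ideal.span {(p : S)}) p := (CharP.charP_iff_prime_eq_zero Fact.out).2 (by
      rw [← map_natCast (Ideal.Quotient.mk (Ideal.span {(p : S)})) p, Ideal.Quotient.eq_zero_iff_mem]
      exact Ideal.mem_span_singleton_self _)
    have hcoeff : ∀ n : ℕ, Ideal.Quotient.mk (Ideal.span {(p : S)}) (((σ ^ n) x).coeff i) =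
        Ideal.Quotient.mk (Ideal.span {(p : S)}) (x.coeff i) ^ p ^ n := by
      intro n
      induction n with
      | zero => rw [pow_zero, pow_zero, pow_one]; rfl
      | succ n ih =>
        rw [← Dieu.comp_pow_eq_pow_succ, RingHom.comp_apply, ← WittVector.map_coeff, map_frobenius',
          WittVector.coeff_frobenius_charP, WittVector.map_coeff, ih, ← pow_mul, ← pow_succ]
    rw [hcoeff, ← map_pow, pow_eq_zero_of_le ((Nat.lt_pow_self (Fact.out : p.Prime).one_lt).le)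
      (hN _ ((mem_wIdeal _).1 hx i)), map_zero]
  have h2 : ∀ j, ∀ x ∈ wIdeal p 𝔞, (σ ^ (N + j)) x ∈ wIdeal p (Ideal.span {(p : S) ^ (j + 1)}) := by
    intro j
    induction j with
    | zero => exact h1
    | succ j ih =>
      intro x hx
      rw [← add_assoc, ← Dieu.comp_pow_eq_pow_succ, RingHom.comp_apply]
      exact frobenius_mem_wIdeal_pow (Nat.succ_pos j) (ih x hx)
  refine ⟨N + e, fun x hx => ?_⟩
  ext i
  have h3 := (mem_wIdeal _).1 (h2 e x hx) i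
  rw [pow_succ, he, zero_mul, Ideal.span_singleton_eq_bot.2 rfl, Ideal.mem_bot] at h3
  rw [h3, WittVector.zero_coeff]

variable {P₁ : Type v} [AddCommGroup P₁] [Module (WittVector p S) P₁]
variable {P₂ : Type w} [AddCommGroup P₂] [Module (WittVector p S) P₂]
variable {ι : Type z} [Finite ι] (b₁ : Module.Basis ι (WittVector p S) P₁) (b' : Module.Basis ι (WittVector p S) P₁)
variable (F₂ : P₂ →ₛₗ[(WittVector.frobenius : WittVector p S →+* WittVector p S)] P₂)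

/-- `α ↦ F₂ ∘ α ∘ F₁⁻¹`. -/
def conjF (α : P₁ →ₗ[W] P₂) : P₁ →ₗ[W] P₂ := b'.constr ℕ fun i => F₂ (α (b₁ i))

theorem conjF_sub (α β : P₁ →ₗ[W] P₂) : conjF b₁ b' F₂ (α - β) = conjF b₁ b' F₂ α - conjF b₁ b' F₂ β := by
  refine b'.ext fun i => ?_
  simp [conjF]

theorem conjF_iterate_sub (n : ℕ) : ∀ α β : P₁ →ₗ[W] P₂,
    (conjF b₁ b' F₂)^[n] (α - β) = (conjF b₁ b' F₂)^[n] α - (conjF b₁ b' F₂)^[n] β := by
  induction n with
  | zero => exact fun α β => rfl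
  | succ n ih =>
    intro α β
    rw [Function.iterate_succ_apply, Function.iterate_succ_apply, Function.iterate_succ_apply, conjF_sub, ih]

theorem mem_smul_of_basis {M : Submodule W P₂} (α : P₁ →ₗ[W] P₂) (h : ∀ i, α (b' i) ∈ M) (x : P₁) : α x ∈ M := by
  have hx : x ∈ Submodule.span W (Set.range b') := b'.span_eq ▸ Submodule.mem_top
  have : Submodule.span W (Set.range b') ≤ M.comap α := Submodule.span_le.2 (by rintro _ ⟨i, rfl⟩; exact h i)
  exact this hx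

theorem conjF_mem (𝔡 : Ideal W) {α : P₁ →ₗ[W] P₂} (hα : ∀ x, α x ∈ 𝔡 • (⊤ : Submodule W P₂)) (x : P₁) :
    conjF b₁ b' F₂ α x ∈ 𝔡.map σ • (⊤ : Submodule W P₂) := by
  refine mem_smul_of_basis b' _ (fun i => ?_) x
  rw [conjF, Module.Basis.constr_basis]
  refine Submodule.smul_induction_on (hα (b₁ i)) (fun r hr y _ => ?_) fun a c ha hc => ?_
  · rw [LinearMap.map_smulₛₗ]
    exact Submodule.smul_mem_smul (Ideal.mem_map_of_mem _ hr) Submodule.mem_top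
  · rw [map_add]
    exact add_mem ha hc

theorem conjF_iterate_mem (n : ℕ) : ∀ (𝔡 : Ideal W) {α : P₁ →ₗ[W] P₂},
    (∀ x, α x ∈ 𝔡 • (⊤ : Submodule W P₂)) → ∀ x, (conjF b₁ b' F₂)^[n] α x ∈ 𝔡.map (σ ^ n) • (⊤ : Submodule W P₂) := by
  induction n with
  | zero =>
    intro 𝔡 α h x
    have e : 𝔡.map (σ ^ 0) = 𝔡 := Ideal.map_id 𝔡
    rw [e]
    exact h x
  | succ n ih =>
    intro 𝔡 α h x
    rw [Function.iterate_succ_apply', ← Dieu.comp_pow_eq_pow_succ, ← Ideal.map_map]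
    exact conjF_mem b₁ b' F₂ _ (ih 𝔡 h) x

theorem conjF_iterate_eq_zero {m : ℕ} {K : Ideal W} (hm : ∀ x ∈ K, (σ ^ m) x = 0) {α : P₁ →ₗ[W] P₂}
    (hα : ∀ x, α x ∈ K • (⊤ : Submodule W P₂)) : (conjF b₁ b' F₂)^[m] α = 0 := by
  ext x
  have hbot : K.map (σ ^ m) = ⊥ := (Ideal.map_eq_bot_iff_le_ker _).2 hm
  simpa [hbot] using conjF_iterate_mem b₁ b' F₂ m K hα x

variable {F₁ : P₁ →ₛₗ[(WittVector.frobenius : WittVector p S →+* WittVector p S)] P₁}

theorem comm_iff (hb' : ∀ i, b' i = F₁ (b₁ i)) (α : P₁ →ₗ[W] P₂) :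
    (∀ x, F₂ (α x) = α (F₁ x)) ↔ conjF b₁ b' F₂ α = α := by
  refine ⟨fun h => b'.ext fun i => ?_, fun h x => ?_⟩
  · rw [conjF, Module.Basis.constr_basis, h, hb']
  · refine LinearMap.congr_fun (b₁.ext (f₁ := F₂.comp α) (f₂ := α.comp F₁) fun i => ?_) x
    have := LinearMap.congr_fun h (b' i)
    rw [conjF, Module.Basis.constr_basis] at this
    rw [LinearMap.comp_apply, LinearMap.comp_apply, this, hb']

theorem comm_unique {m : ℕ} {K : Ideal W} (hm : ∀ x ∈ K, (σ ^ m) x = 0) (hb' : ∀ i, b' i = F₁ (b₁ i))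
    {α β : P₁ →ₗ[W] P₂} (hα : ∀ x, F₂ (α x) = α (F₁ x)) (hβ : ∀ x, F₂ (β x) = β (F₁ x))
    (h : ∀ x, α x - β x ∈ K • (⊤ : Submodule W P₂)) : α = β := by
  have hfix : ∀ n γ, (∀ x, F₂ (γ x) = γ (F₁ x)) → (conjF b₁ b' F₂)^[n] γ = γ := fun n γ hγ =>
    Function.iterate_fixed ((comm_iff b₁ b' F₂ hb' γ).1 hγ) n
  have := conjF_iterate_eq_zero b₁ b' F₂ hm (α := α - β) (fun x => h x)
  rw [conjF_iterate_sub, hfix m α hα, hfix m β hβ, sub_eq_zero] at this
  exact this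

theorem exists_comm {m : ℕ} {𝔠 : Ideal W} (hm : ∀ x ∈ 𝔠, (σ ^ m) x = 0)
    (h𝔠 : ∀ x ∈ 𝔠, WittVector.frobenius x ∈ 𝔠) (hb' : ∀ i, b' i = F₁ (b₁ i)) (α₀ : P₁ →ₗ[W] P₂)
    (hα₀ : ∀ x, F₂ (α₀ x) - α₀ (F₁ x) ∈ 𝔠 • (⊤ : Submodule W P₂)) :
    ∃ α : P₁ →ₗ[W] P₂, (∀ x, α x - α₀ x ∈ 𝔠 • (⊤ : Submodule W P₂)) ∧ ∀ x, F₂ (α x) = α (F₁ x) := by
  let U := conjF b₁ b' F₂
  have hδ : ∀ x, (U α₀ - α₀) x ∈ 𝔠 • (⊤ : Submodule W P₂) := fun x =>
    mem_smul_of_basis b' _ (fun i => by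
      rw [LinearMap.sub_apply]
      show b'.constr ℕ _ (b' i) - α₀ (b' i) ∈ _
      rw [Module.Basis.constr_basis, hb']
      exact hα₀ _) x
  have hle : 𝔠.map σ ≤ 𝔠 := Ideal.map_le_iff_le_comap.2 h𝔠
  have hn : ∀ n x, (U^[n] α₀ - α₀) x ∈ 𝔠 • (⊤ : Submodule W P₂) := by
    intro n
    induction n with
    | zero => intro x; simp
    | succ n ih =>
      intro x
      rw [Function.iterate_succ_apply', show U (U^[n] α₀) - α₀ = U (U^[n] α₀ - α₀) + (U α₀ - α₀) by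
        simp only [U, conjF_sub, sub_add_sub_cancel], LinearMap.add_apply]
      exact add_mem (Submodule.smul_mono_left hle (conjF_mem b₁ b' F₂ 𝔠 ih x)) (hδ x)
  refine ⟨U^[m] α₀, hn m, (comm_iff b₁ b' F₂ hb' _).2 ?_⟩
  have := conjF_iterate_eq_zero b₁ b' F₂ hm hδ
  rw [conjF_iterate_sub, sub_eq_zero, ← Function.iterate_succ_apply, Function.iterate_succ_apply'] at this
  exact this

end Groth.Agent.Disp23
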