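import Groth.Prelude.Def_W4c1extbt610Disp
import Groth.Agent.Lib.Hens.Misc
import Groth.Agent.Lib.Hens.Pair
import Groth.Agent.S14855
import Mathlib.RingTheory.Idempotents
import Mathlib.RingTheory.Henselian
import Mathlib.LinearAlgebra.Charpoly.Basic
import Mathlib.RingTheory.IntegralClosure.IsIntegral.Basic

/-!
# Normal decompositions over adically complete rings
-/

universe u v

open W4c1extbt610

noncomputable section

namespace Groth.Agent.Disp23

variable {A : Type u} [CommRing A] {P : Type v} [AddCommGroup P] [Module A P]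

/-- An endomorphism idempotent modulo `I` of a finite module over a henselian pair lifts to an idempotent. -/
theorem exists_idempotent_end (I : Ideal A) (hI : HenselianRing A I) [Module.Finite A P] (a : Module.End A P)
    (ha : ∀ x, a (a x) - a x ∈ I • (⊤ : Submodule A P)) :
    ∃ e : Module.End A P, IsIdempotentElem e ∧ ∀ x, e x - a x ∈ I • (⊤ : Submodule A P) := by
  let B := Algebra.adjoin A ({a} : Set (Module.End A P))
  let _ : CommRing B := Algebra.adjoinCommRingOfComm A (s := {a}) (fun x hx y hy => by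
    rw [Set.mem_singleton_iff] at hx hy; rw [hx, hy])
  let b : B := ⟨a, Algebra.subset_adjoin (Set.mem_singleton a)⟩
  have : Algebra.IsIntegral A B :=
    ⟨fun x => (isIntegral_algHom_iff B.val Subtype.val_injective).1 (LinearMap.exists_monic_and_aeval_eq_zero A (B.val x))⟩
  obtain ⟨q, hq, hqd, hqc, hq0⟩ :=
    LinearMap.exists_monic_and_natDegree_eq_and_coeff_mem_pow_and_aeval_eq_zero A (a * a - a) I
      (by rintro _ ⟨x, rfl⟩; exact ha x)
  have hqB : Polynomial.aeval (b * b - b) q = 0 := by
    refine Subtype.val_injective (α := Module.End A P) ?_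
    exact (Polynomial.aeval_algHom_apply B.val (b * b - b) q).symm.trans hq0
  let J : Ideal B := I.map (algebraMap A B)
  have hnil : (b * b - b) ^ q.natDegree ∈ J := by
    rw [Polynomial.aeval_eq_sum_range, Finset.sum_range_succ, hq.coeff_natDegree, one_smul] at hqB
    rw [eq_neg_of_add_eq_zero_right hqB]
    refine J.neg_mem (J.sum_mem fun i hi => ?_)
    rw [Algebra.smul_def]
    exact J.mul_mem_right _ (Ideal.mem_map_of_mem _
      (Ideal.pow_le_self (by have := Finset.mem_range.1 hi; omega) (hqc i)))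
  let J' : Ideal B := J ⊔ Ideal.span {b * b - b}
  have hJ' : ∀ z ∈ J', ∀ x, (z : Module.End A P) x ∈ I • (⊤ : Submodule A P) := by
    intro z hz x
    obtain ⟨y, hy, w, hw, rfl⟩ := Submodule.mem_sup.1 hz
    refine add_mem (s := I • (⊤ : Submodule A P)) ?_ ?_
    · refine Submodule.span_induction (p := fun (y : B) _ => ∀ x, (y : Module.End A P) x ∈ I • (⊤ : Submodule A P))
        ?_ (fun _ => zero_mem _) (fun u v _ _ hu hv x => add_mem (hu x) (hv x)) ?_ hy x
      · rintro _ ⟨r, hr, rfl⟩ x
        show r • x ∈ I • (⊤ : Submodule A P)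
        exact Submodule.smul_mem_smul hr Submodule.mem_top
      · intro c u _ hu x
        refine Submodule.smul_induction_on (p := fun v => (c : Module.End A P) v ∈ I • (⊤ : Submodule A P)) (hu x)
          (fun r hr v _ => by rw [map_smul]; exact Submodule.smul_mem_smul hr Submodule.mem_top)
          (fun u v hu hv => by rw [map_add]; exact add_mem hu hv)
    · obtain ⟨c, rfl⟩ := Ideal.mem_span_singleton.1 hw
      exact ha ((c : Module.End A P) x)
  let ν : B ⧸ J →+* B ⧸ J' := Ideal.Quotient.factor le_sup_left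
  obtain ⟨e₁, he₁, he₁'⟩ := exists_isIdempotentElem_eq_of_ker_isNilpotent ν (fun z hz => by
      obtain ⟨z, rfl⟩ := Ideal.Quotient.mk_surjective z
      rw [RingHom.mem_ker, Ideal.Quotient.factor_mk, Ideal.Quotient.eq_zero_iff_mem] at hz
      obtain ⟨y, hy, w, hw, rfl⟩ := Submodule.mem_sup.1 hz
      obtain ⟨c, rfl⟩ := Ideal.mem_span_singleton.1 hw
      refine ⟨q.natDegree, ?_⟩
      rw [map_add, Ideal.Quotient.eq_zero_iff_mem.2 hy, zero_add, ← map_pow, Ideal.Quotient.eq_zero_iff_mem, mul_pow]
      exact J.mul_mem_right _ hnil)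
    (Ideal.Quotient.mk J' b) ⟨Ideal.Quotient.mk J b, rfl⟩ (by
      rw [IsIdempotentElem, ← map_mul, Ideal.Quotient.eq]
      exact Submodule.mem_sup_right (Ideal.mem_span_singleton_self _))
  obtain ⟨b₁, rfl⟩ := Ideal.Quotient.mk_surjective e₁
  rw [Ideal.Quotient.factor_mk, Ideal.Quotient.eq] at he₁'
  obtain ⟨e, he, heb⟩ := Hens.exists_idempotent_lift hI b₁ (by
    rw [← Ideal.Quotient.eq, map_mul]; exact he₁)
  refine ⟨e, congrArg Subtype.val he.eq, fun x => ?_⟩
  exact hJ' (e - b) (by simpa using J'.add_mem (Submodule.mem_sup_left heb) he₁') x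

/-- A decomposition modulo `I` lifts to a decomposition. -/
theorem exists_normal (I : Ideal A) (hI : HenselianRing A I) [Module.Finite A P] [Module.Projective A P]
    (Q C : Submodule A P) (hsup : Q ⊔ C = ⊤) (hinf : Q ⊓ C = I • (⊤ : Submodule A P)) :
    ∃ L T : Submodule A P, IsCompl L T ∧ Q = L ⊔ I • T := by
  have hIQ : I • (⊤ : Submodule A P) ≤ Q := hinf ▸ inf_le_left
  have hsurj : Function.Surjective (Q.mkQ.comp C.subtype) := by
    intro y
    obtain ⟨y, rfl⟩ := Q.mkQ_surjective y
    obtain ⟨q, hq, c, hc, rfl⟩ := Submodule.mem_sup.1 (show y ∈ Q ⊔ C by rw [hsup]; trivial)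
    exact ⟨⟨c, hc⟩, by simp [(Submodule.Quotient.mk_eq_zero Q).2 hq]⟩
  obtain ⟨a₀, ha₀⟩ := Module.projective_lifting_property _ Q.mkQ hsurj
  let a : Module.End A P := C.subtype.comp a₀
  have haC : ∀ x, a x ∈ C := fun x => (a₀ x).2
  have haQ : ∀ x, x - a x ∈ Q := fun x => by
    rw [← Submodule.Quotient.mk_eq_zero, Submodule.Quotient.mk_sub, sub_eq_zero]
    exact (LinearMap.congr_fun ha₀ x).symm
  have ha : ∀ x, a (a x) - a x ∈ I • (⊤ : Submodule A P) := fun x => by
    rw [← hinf]
    refine ⟨?_, C.sub_mem (haC _) (haC _)⟩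
    rw [← neg_sub]
    exact Q.neg_mem (haQ _)
  obtain ⟨e, he, hea⟩ := exists_idempotent_end I hI a ha
  refine ⟨LinearMap.ker e, LinearMap.range e, (LinearMap.IsIdempotentElem.isCompl he).symm,
    le_antisymm (fun q hq => ?_) (sup_le (fun x hx => ?_) ((Submodule.smul_mono le_rfl le_top).trans hIQ))⟩
  · have h1 : a q ∈ I • (⊤ : Submodule A P) := by
      rw [← hinf]
      exact ⟨by simpa using Q.sub_mem hq (haQ q), haC q⟩
    have h2 : e q ∈ I • (⊤ : Submodule A P) := by simpa using add_mem (hea q) h1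
    have h3 : e (e q) = e q := LinearMap.congr_fun he.eq q
    refine Submodule.mem_sup.2 ⟨q - e q, by rw [LinearMap.mem_ker, map_sub, h3, sub_self], e q, ?_, sub_add_cancel q _⟩
    have : e (e q) ∈ Submodule.map e (I • ⊤) := ⟨_, h2, rfl⟩
    rwa [Submodule.map_smul'', Submodule.map_top, h3] at this
  · rw [LinearMap.mem_ker] at hx
    have := hea x
    rw [hx, zero_sub] at this
    simpa using Q.add_mem (haQ x) (hIQ ((Submodule.neg_mem_iff _).1 this))

theorem IV_eq_ker (p : ℕ) [Fact p.Prime] (R : Type u) [CommRing R] :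
    IV p R = RingHom.ker (WittVector.constantCoeff : WittVector p R →+* R) := by
  refine le_antisymm (Ideal.span_le.2 ?_) fun x hx => ?_
  · rintro _ ⟨y, rfl⟩
    exact WittVector.verschiebung_coeff_zero y
  · have h : WittVector.verschiebung (x.shift 1) = x :=
      (WittVector.eq_iterate_verschiebung (x := x) (n := 1) (fun i hi => by
        interval_cases i; exact hx)).symm
    rw [← h]
    exact verschiebung_mem_IV p R _

theorem henselianRing_IV (p : ℕ) [Fact p.Prime] (R : Type u) [CommRing R]
    [IsAdicComplete (Ideal.span {(p : R)}) R] : HenselianRing (WittVector p R) (IV p R) := by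
  have := (S14855.result p R).2
  rw [← IV_eq_ker] at this
  exact IsAdicComplete.henselianRing _ _

end Groth.Agent.Disp23
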