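import Groth.Agent.Lib.Disp23.Perfect
import Groth.Agent.Lib.Disp23.Normal

/-!
# The 3n-display of a Dieudonné module over a perfect ring
-/

universe u v

open W4c1extbt610

noncomputable section

namespace Groth.Agent.Disp23

variable {p : ℕ} [Fact p.Prime] {k : Type u} [CommRing k] [CharP k p] [PerfectRing k p]
variable {M : Type v} [AddCommGroup M] [Module (WittVector p k) M]

local notation "W" => WittVector p k
local notation "σ" => (WittVector.frobenius : WittVector p k →+* WittVector p k)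
local notation "pW" => Ideal.span ({(p : WittVector p k)} : Set (WittVector p k))

theorem IV_eq_span_p : IV p k = pW := (IV_eq_ker p k).trans WittVector.ker_constantCoeff

theorem verschiebung_eq_p_mul (w : W) :
    WittVector.verschiebung w = (p : W) * (WittVector.frobeniusEquiv p k).symm w := by
  conv_lhs => rw [← (WittVector.frobeniusEquiv p k).apply_symm_apply w]
  rw [mul_comm]
  exact WittVector.verschiebung_frobenius _

variable [Module.Finite (WittVector p k) M] [Module.Projective (WittVector p k) M]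
  (F : M →ₛₗ[(WittVector.frobenius : WittVector p k →+* WittVector p k)] M)
  (V : M →ₛₗ[((WittVector.frobeniusEquiv p k).symm : WittVector p k →+* WittVector p k)] M)
  (hFV : ∀ m : M, F (V m) = (p : WittVector p k) • m) (hVF : ∀ m : M, V (F m) = (p : WittVector p k) • m)

omit [Module.Finite (WittVector p k) M] [Module.Projective (WittVector p k) M] in
theorem mem_range_V_smul (r : W) {x : M} (hx : x ∈ Set.range V) : r • x ∈ Set.range V := by
  obtain ⟨m, rfl⟩ := hx
  refine ⟨WittVector.frobenius r • m, ?_⟩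
  rw [map_smulₛₗ]
  exact congrArg (· • V m) ((WittVector.frobeniusEquiv p k).symm_apply_apply r)

include hFV in
theorem V_injective : Function.Injective V := by
  rw [injective_iff_map_eq_zero]
  intro m hm
  have h : (p : W) • m = 0 := by rw [← hFV, hm, map_zero]
  have h1 : m ∈ (⊥ : Ideal W) • (⊤ : Submodule W M) :=
    mem_of_p_smul_mem coord_bot ⊥ ⊥ (fun y hy => by
      rw [sup_idem, Submodule.mem_bot] at hy
      rw [Submodule.mem_bot, p_regular hy]) (by rw [h]; exact zero_mem _)
  rwa [Submodule.bot_smul, Submodule.mem_bot] at h1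

include hFV hVF in
theorem exists_display :
    ∃ D : Display3n p k M, D.F = F ∧ (∀ x : M, x ∈ D.Q ↔ x ∈ Set.range V) ∧
      ∀ (m : M) (h : V m ∈ D.Q), D.Vinv ⟨V m, h⟩ = m := by
  let Q : Submodule W M :=
    { carrier := Set.range V
      zero_mem' := ⟨0, map_zero V⟩
      add_mem' := fun ⟨a, ha⟩ ⟨b, hb⟩ => ⟨a + b, by rw [map_add, ha, hb]⟩
      smul_mem' := fun r x hx => mem_range_V_smul V r hx }
  have hQ : ∀ x : M, x ∈ Q ↔ x ∈ Set.range V := fun x => Iff.rfl
  have hinj := V_injective F V hFV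
  have hpQ : pW • (⊤ : Submodule W M) ≤ Q := fun x hx => by
    obtain ⟨w, rfl⟩ := mem_smul_span.1 hx
    exact ⟨F w, hVF w⟩
  obtain ⟨_, _⟩ := projective_modP (M := M) bot_le (coord_bot (p := p) (k := k))
  set N₀ := pW • (⊤ : Submodule W M) with hN₀
  let Qb : Submodule (W ⧸ pW) (M ⧸ N₀) :=
    Submodule.span (W ⧸ pW) (Set.range fun m : M => N₀.mkQ (V m))
  haveI : Module.Projective (W ⧸ pW) ((M ⧸ N₀) ⧸ Qb) :=
    projective_modV F V hFV hVF coord_bot bot_le
      fun q hq y hy => Submodule.mem_sup_left (wKer_p_mul hq (by simpa using hy))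
  obtain ⟨j, hj⟩ := Module.projective_lifting_property Qb.mkQ LinearMap.id Qb.mkQ_surjective
  have hj' : ∀ y, Qb.mkQ (j y) = y := fun y => LinearMap.congr_fun hj y
  let C : Submodule W M := ((LinearMap.range j).restrictScalars W).comap N₀.mkQ
  have hnorm : ∃ L T : Submodule W M, IsCompl L T ∧ Q = L ⊔ IV p k • T := by
    have hI : HenselianRing W (IV p k) := by
      rw [IV_eq_span_p]
      exact IsAdicComplete.henselianRing _ _
    refine exists_normal (IV p k) hI Q C ?_ ?_
    · rw [eq_top_iff]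
      intro x _
      obtain ⟨y, hy⟩ := N₀.mkQ_surjective (j (Qb.mkQ (N₀.mkQ x)))
      have h1 : N₀.mkQ (x - y) ∈ Qb := by
        rw [← Submodule.Quotient.mk_eq_zero, map_sub, hy]
        show Qb.mkQ (N₀.mkQ x - j (Qb.mkQ (N₀.mkQ x))) = 0
        rw [map_sub, hj', sub_self]
      have h2 : ∀ z ∈ Qb, ∃ w ∈ Q, N₀.mkQ w = z := by
        intro z hz
        refine Submodule.span_induction (p := fun z _ => ∃ w ∈ Q, N₀.mkQ w = z) ?_ ⟨0, zero_mem Q, map_zero _⟩
          (fun a b _ _ ⟨a', ha, ha'⟩ ⟨b', hb, hb'⟩ => ⟨a' + b', add_mem ha hb, by rw [map_add, ha', hb']⟩)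
          (fun c a _ ⟨a', ha, ha'⟩ => ?_) hz
        · rintro _ ⟨m, rfl⟩
          exact ⟨V m, ⟨m, rfl⟩, rfl⟩
        · obtain ⟨c, rfl⟩ := Ideal.Quotient.mk_surjective c
          exact ⟨c • a', Q.smul_mem c ha, by rw [map_smul, ha']; rfl⟩
      obtain ⟨w, hw, hwx⟩ := h2 _ h1
      have h3 : x - y - w ∈ N₀ := (Submodule.Quotient.eq N₀).1 hwx.symm
      have hyC : y ∈ C := ⟨Qb.mkQ (N₀.mkQ x), hy.symm⟩
      simpa using Submodule.add_mem_sup (add_mem hw (hpQ h3)) hyC
    · rw [IV_eq_span_p]
      refine le_antisymm ?_ (le_inf hpQ fun x hx => ?_)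
      · rintro x ⟨⟨m, rfl⟩, hxC⟩
        obtain ⟨y, hy⟩ := hxC
        have h1 : Qb.mkQ (N₀.mkQ (V m)) = 0 :=
          (Submodule.Quotient.mk_eq_zero Qb).2 (Submodule.subset_span ⟨m, rfl⟩)
        rw [← hy, hj'] at h1
        rw [h1, map_zero] at hy
        exact (Submodule.Quotient.mk_eq_zero N₀).1 hy.symm
      · show N₀.mkQ x ∈ LinearMap.range j
        rw [Submodule.mkQ_apply, (Submodule.Quotient.mk_eq_zero N₀).2 hx]
        exact zero_mem _
  choose g hg using fun x : Q => x.2
  have hg' : ∀ (m : M) (h : V m ∈ Q), g ⟨V m, h⟩ = m := fun m h => hinj (hg ⟨V m, h⟩)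
  let Vi : Q →ₛₗ[σ] M :=
    { toFun := g
      map_add' := fun x y => hinj (by rw [map_add, hg, hg, hg]; rfl)
      map_smul' := fun r x => hinj (by
        rw [map_smulₛₗ, hg, hg]
        exact congrArg (· • (x : M)) ((WittVector.frobeniusEquiv p k).symm_apply_apply r).symm) }
  have hsurj : Function.Surjective Vi := fun m => ⟨⟨V m, ⟨m, rfl⟩⟩, hg' m _⟩
  refine ⟨{ Q := Q, F := F, Vinv := Vi, finite := inferInstance, projective := inferInstance,
            IV_smul_le := IV_eq_span_p (p := p) (k := k) ▸ hpQ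
            exists_normal := hnorm
            span_range_Vinv := by rw [hsurj.range_eq, Submodule.span_univ]
            Vinv_verschiebung_smul := fun w x => hinj ?_ }, rfl, hQ, hg'⟩
  show V (g _) = V (w • F x)
  rw [hg, map_smulₛₗ, hVF, smul_smul]
  exact congrArg (· • x) ((verschiebung_eq_p_mul w).trans (mul_comm _ _))

end Groth.Agent.Disp23
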