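import Groth.Agent.Lib.Disp23.PerfectExact
import Mathlib.RingTheory.WittVector.Complete
import Mathlib.RingTheory.Ideal.Quotient.Operations
import Mathlib.Algebra.Module.Projective

/-!
# Dieudonné modules over perfect rings modulo `p`
-/

universe u v

noncomputable section

namespace Groth.Agent.Disp23

variable {p : ℕ} [Fact p.Prime] {k : Type u} [CommRing k] [CharP k p] [PerfectRing k p]

local notation "W" => WittVector p k
local notation "σ" => (WittVector.frobenius : WittVector p k →+* WittVector p k)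
set_option quotPrecheck false in
local notation "σi" => ((WittVector.frobeniusEquiv p k).symm : WittVector p k →+* WittVector p k)
local notation "pW" => Ideal.span ({(p : WittVector p k)} : Set (WittVector p k))

variable {M : Type v} [AddCommGroup M] [Module (WittVector p k) M]

/-- Coordinates with values in a quotient of `W`. -/
def Coord (p : ℕ) [Fact p.Prime] (k : Type u) [CommRing k] (M : Type v) [AddCommGroup M]
    [Module (WittVector p k) M] (P : Ideal (WittVector p k)) : Prop :=
  ∃ (t : ℕ) (e : Fin t → M) (f : Fin t → M →ₗ[WittVector p k] WittVector p k ⧸ P),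
    ∀ (x : M) (w : Fin t → WittVector p k), (∀ i, Ideal.Quotient.mk P (w i) = f i x) → x = ∑ i, w i • e i

theorem coord_bot [Module.Finite W M] [Module.Projective W M] : Coord p k M ⊥ := by
  classical
  obtain ⟨t, π, hπ⟩ := Module.Finite.exists_fin' W M
  obtain ⟨s, hs⟩ := Module.projective_lifting_property π LinearMap.id hπ
  refine ⟨t, fun i => π (Pi.single i 1), fun i => (Submodule.mkQ (⊥ : Ideal W)).comp ((LinearMap.proj i).comp s),
    fun x w hw => ?_⟩
  have h : ∀ i, w i = s x i := fun i => by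
    have h1 : Submodule.mkQ (⊥ : Ideal W) (w i) = Submodule.mkQ (⊥ : Ideal W) (s x i) := hw i
    rwa [Submodule.mkQ_apply, Submodule.mkQ_apply, Submodule.Quotient.eq, Submodule.mem_bot, sub_eq_zero] at h1
  simp only [h, ← map_smul, ← map_sum]
  rw [← pi_eq_sum_univ' (s x)]
  exact (LinearMap.congr_fun hs x).symm

theorem coord_trunc (P : Ideal W) [Module (W ⧸ P) M] [IsScalarTower W (W ⧸ P) M]
    [Module.Finite (W ⧸ P) M] [Module.Projective (W ⧸ P) M] : Coord p k M P := by
  classical
  obtain ⟨t, π, hπ⟩ := Module.Finite.exists_fin' (W ⧸ P) M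
  obtain ⟨s, hs⟩ := Module.projective_lifting_property π LinearMap.id hπ
  refine ⟨t, fun i => π (Pi.single i 1), fun i => ((LinearMap.proj i).comp s).restrictScalars W, fun x w hw => ?_⟩
  have h : ∀ i, w i • π (Pi.single i (1 : W ⧸ P)) = π (s x i • Pi.single i 1) := fun i => by
    rw [map_smul, ← algebraMap_smul (W ⧸ P) (w i)]
    exact congrArg (· • _) (hw i)
  simp only [h, ← map_sum]
  rw [← pi_eq_sum_univ' (s x)]
  exact (LinearMap.congr_fun hs x).symm

theorem apply_mem {P J : Ideal W} (f : M →ₗ[W] W ⧸ P) {x : M} (hx : x ∈ J • (⊤ : Submodule W M)) {w : W}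
    (hw : Ideal.Quotient.mk P w = f x) : w ∈ J ⊔ P := by
  suffices H : ∃ j ∈ J, f x = Ideal.Quotient.mk P j by
    obtain ⟨j, hj, hfx⟩ := H
    rw [hfx, Ideal.Quotient.eq] at hw
    simpa using Submodule.add_mem_sup hj hw
  refine Submodule.smul_induction_on hx (fun r hr y _ => ?_) fun a b ⟨j, hj, ha⟩ ⟨j', hj', hb⟩ => ?_
  · obtain ⟨c, hc⟩ := Ideal.Quotient.mk_surjective (f y)
    exact ⟨r * c, J.mul_mem_right c hr, by rw [map_smul, ← hc, map_mul]; rfl⟩
  · exact ⟨j + j', J.add_mem hj hj', by rw [map_add, ha, hb, map_add]⟩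

/-- Dividing by `p` in coordinates. -/
theorem mem_of_p_smul_mem {P : Ideal W} (hc : Coord p k M P) (J K : Ideal W)
    (h : ∀ y : W, (p : W) * y ∈ J ⊔ P → y ∈ K) {x : M} (hx : (p : W) • x ∈ J • (⊤ : Submodule W M)) :
    x ∈ K • (⊤ : Submodule W M) := by
  obtain ⟨t, e, f, hef⟩ := hc
  choose w hw using fun i => Ideal.Quotient.mk_surjective (f i x)
  rw [hef x w hw]
  refine sum_mem fun i _ => Submodule.smul_mem_smul (h _ (apply_mem (f i) hx ?_)) Submodule.mem_top
  rw [map_smul, ← hw]
  rfl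

theorem p_regular {y : W} (h : (p : W) * y = 0) : y = 0 :=
  WittVector.eq_zero_of_p_mul_eq_zero y (by rw [mul_comm]; exact h)

theorem mem_pPow_of_p_mul_mem {n : ℕ} {y : W} (h : (p : W) * y ∈ Ideal.span {(p : W) ^ (n + 1)}) :
    y ∈ Ideal.span {(p : W) ^ n} := by
  obtain ⟨z, hz⟩ := Ideal.mem_span_singleton.1 h
  refine Ideal.mem_span_singleton.2 ⟨z, sub_eq_zero.1 (p_regular ?_)⟩
  rw [mul_sub, hz, pow_succ]
  ring

/-- `W(q)` for an ideal `q` of `k`. -/
def wKer (p : ℕ) [Fact p.Prime] {k : Type u} [CommRing k] (q : Ideal k) : Ideal (WittVector p k) :=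
  RingHom.ker (WittVector.map (p := p) (Ideal.Quotient.mk q))

omit [CharP k p] [PerfectRing k p] in
theorem mem_wKer {q : Ideal k} {w : W} : w ∈ wKer p q ↔ ∀ i, w.coeff i ∈ q := by
  rw [wKer, RingHom.mem_ker, WittVector.ext_iff]
  refine forall_congr' fun i => ?_
  rw [WittVector.map_coeff, WittVector.zero_coeff, Ideal.Quotient.eq_zero_iff_mem]

theorem sigma_symm_mem_wKer {q : Ideal k} (hq : q.IsRadical) {w : W} (hw : w ∈ wKer p q) :
    σi w ∈ wKer p q := by
  rw [mem_wKer] at hw ⊢
  intro i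
  refine hq ⟨p, ?_⟩
  have h := congrArg (fun z => WittVector.coeff z i) ((WittVector.frobeniusEquiv p k).apply_symm_apply w)
  rw [← WittVector.coeff_frobenius_charP]
  exact (show (WittVector.frobenius (σi w)).coeff i = w.coeff i from h) ▸ hw i

theorem wKer_p_mul {q : Ideal k} (hq : q.IsRadical) {w : W} (hw : (p : W) * w ∈ wKer p q) : w ∈ wKer p q := by
  rw [mem_wKer] at hw ⊢
  intro i
  refine hq ⟨p, ?_⟩
  have := hw (i + 1)
  rwa [mul_comm, WittVector.mul_charP_coeff_succ] at this

theorem wKer_mul_mem {q : Ideal k} (hq : q.IsRadical) {n : ℕ} {y : W}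
    (h : (p : W) * y ∈ wKer p q ⊔ Ideal.span {(p : W) ^ (n + 1)}) : y ∈ wKer p q ⊔ Ideal.span {(p : W) ^ n} := by
  obtain ⟨a, ha, b, hb, hab⟩ := Submodule.mem_sup.1 h
  obtain ⟨z, rfl⟩ := Ideal.mem_span_singleton.1 hb
  have : y - (p : W) ^ n * z ∈ wKer p q :=
    wKer_p_mul hq (by rw [mul_sub, ← hab, pow_succ]; convert ha using 1; ring)
  simpa using Submodule.add_mem_sup this
    (Ideal.mem_span_singleton.2 (Dvd.intro z rfl) : (p : W) ^ n * z ∈ Ideal.span {(p : W) ^ n})

theorem comap_constantCoeff_eq (q : Ideal k) :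
    q.comap (WittVector.constantCoeff : W →+* k) = wKer p q ⊔ pW := by
  refine le_antisymm (fun w hw => ?_) (sup_le (fun w hw => mem_wKer.1 hw 0) ?_)
  · have h1 : WittVector.teichmuller p (w.coeff 0) ∈ wKer p q := by
      rw [wKer, RingHom.mem_ker, WittVector.map_teichmuller,
        Ideal.Quotient.eq_zero_iff_mem.2 (show w.coeff 0 ∈ q from hw), WittVector.teichmuller_zero]
    have h2 : w - WittVector.teichmuller p (w.coeff 0) ∈ pW := by
      rw [← WittVector.ker_constantCoeff, RingHom.mem_ker, map_sub, sub_eq_zero]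
      exact (WittVector.teichmuller_coeff_zero p _).symm
    simpa using Submodule.add_mem_sup h1 h2
  · rw [← WittVector.ker_constantCoeff]
    exact fun w hw => by rw [Ideal.mem_comap, RingHom.mem_ker.1 hw]; exact q.zero_mem

/-- The twist on `W/p`. -/
def resSigma : (W ⧸ pW) ≃+* (W ⧸ pW) :=
  (WittVector.quotientPEquiv (p := p) (k := k)).trans ((frobeniusEquiv k p).trans WittVector.quotientPEquiv.symm)

theorem resSigma_mk (w : W) : resSigma (Ideal.Quotient.mk pW w) = Ideal.Quotient.mk pW (σ w) := by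
  refine (WittVector.quotientPEquiv (p := p) (k := k)).injective ?_
  rw [resSigma, RingEquiv.trans_apply, RingEquiv.trans_apply, RingEquiv.apply_symm_apply]
  exact (WittVector.coeff_frobenius_charP p w 0).symm

theorem isReduced_of_perfect (p : ℕ) [Fact p.Prime] (k : Type u) [CommRing k] [CharP k p] [PerfectRing k p] :
    IsReduced k :=
  ⟨fun x ⟨n, hn⟩ => (iterateFrobeniusEquiv k p n).injective (by
    have hle : n ≤ p ^ n := (Nat.lt_pow_self (Fact.out : p.Prime).one_lt).le
    rw [iterateFrobeniusEquiv_apply, iterateFrobeniusEquiv_apply, iterateFrobenius_def, iterateFrobenius_def,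
      pow_eq_zero_of_le hle hn,
      zero_pow (pow_ne_zero _ (Fact.out : p.Prime).ne_zero)])⟩

theorem isReduced_res : IsReduced (W ⧸ pW) :=
  haveI := isReduced_of_perfect p k
  isReduced_of_injective (WittVector.quotientPEquiv (p := p) (k := k)) (RingEquiv.injective _)

theorem resSigma_mem_iff (P : Ideal (W ⧸ pW)) [P.IsPrime] (r : W ⧸ pW) : resSigma r ∈ P ↔ r ∈ P := by
  have : resSigma r = r ^ p := (WittVector.quotientPEquiv (p := p) (k := k)).injective (by
    rw [resSigma, RingEquiv.trans_apply, RingEquiv.trans_apply, RingEquiv.apply_symm_apply, map_pow]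
    rfl)
  rw [this]
  exact Ideal.IsPrime.pow_mem_iff_mem inferInstance p (Fact.out : p.Prime).pos

theorem mem_smul_span {x : M} : x ∈ pW • (⊤ : Submodule W M) ↔ ∃ w, (p : W) • w = x := by
  rw [Submodule.ideal_span_singleton_smul, Submodule.mem_smul_pointwise_iff_exists]
  exact ⟨fun ⟨w, _, h⟩ => ⟨w, h⟩, fun ⟨w, h⟩ => ⟨w, Submodule.mem_top, h⟩⟩

variable (F : M →ₛₗ[(WittVector.frobenius : WittVector p k →+* WittVector p k)] M)
  (V : M →ₛₗ[((WittVector.frobeniusEquiv p k).symm : WittVector p k →+* WittVector p k)] M)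
  (hFV : ∀ m : M, F (V m) = (p : WittVector p k) • m) (hVF : ∀ m : M, V (F m) = (p : WittVector p k) • m)

include hFV hVF in
/-- Exactness modulo `p`. -/
theorem comap_eq {P : Ideal W} (hc : Coord p k M P) (hP : ∀ y : W, (p : W) * y ∈ P → y ∈ pW) :
    (pW • (⊤ : Submodule W M)).comap F = Submodule.span W (Set.range V) ⊔ pW • (⊤ : Submodule W M) ∧
      (pW • (⊤ : Submodule W M)).comap V = Submodule.span W (Set.range F) ⊔ pW • (⊤ : Submodule W M) := by
  have hreg : ∀ x : M, (p : W) • x = 0 → x ∈ pW • (⊤ : Submodule W M) := fun x hx =>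
    mem_of_p_smul_mem hc ⊥ pW (by rw [bot_sup_eq]; exact hP) (by rw [hx]; exact zero_mem _)
  refine ⟨le_antisymm (fun m hm => ?_) (sup_le (Submodule.span_le.2 ?_) fun m hm => ?_),
    le_antisymm (fun m hm => ?_) (sup_le (Submodule.span_le.2 ?_) fun m hm => ?_)⟩
  · obtain ⟨w, hw⟩ := mem_smul_span.1 hm
    have h0 : F (m - V w) = 0 := by rw [map_sub, hFV, hw, sub_self]
    have h1 : m - V w ∈ pW • (⊤ : Submodule W M) := hreg _ (by rw [← hVF, h0, map_zero])
    simpa using Submodule.add_mem_sup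
      (Submodule.subset_span (R := W) (Set.mem_range_self (f := ⇑V) w)) h1
  · rintro _ ⟨w, rfl⟩
    exact mem_smul_span.2 ⟨w, (hFV w).symm⟩
  · obtain ⟨w, rfl⟩ := mem_smul_span.1 hm
    exact mem_smul_span.2 ⟨F w, by rw [map_smulₛₗ, map_natCast]⟩
  · obtain ⟨w, hw⟩ := mem_smul_span.1 hm
    have h0 : V (m - F w) = 0 := by rw [map_sub, hVF, hw, sub_self]
    have h1 : m - F w ∈ pW • (⊤ : Submodule W M) := hreg _ (by rw [← hFV, h0, map_zero])
    simpa using Submodule.add_mem_sup
      (Submodule.subset_span (R := W) (Set.mem_range_self (f := ⇑F) w)) h1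
  · rintro _ ⟨w, rfl⟩
    exact mem_smul_span.2 ⟨w, (hVF w).symm⟩
  · obtain ⟨w, rfl⟩ := mem_smul_span.1 hm
    exact mem_smul_span.2 ⟨V w, by rw [map_smulₛₗ, map_natCast]⟩

theorem projective_modP {P : Ideal W} (hP : P ≤ pW) (hc : Coord p k M P) :
    Module.Finite (W ⧸ pW) (M ⧸ pW • (⊤ : Submodule W M)) ∧
      Module.Projective (W ⧸ pW) (M ⧸ pW • (⊤ : Submodule W M)) := by
  classical
  obtain ⟨t, e, f, hef⟩ := hc
  let e' : Fin t → M ⧸ pW • (⊤ : Submodule W M) := fun i => Submodule.Quotient.mk (e i)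
  let π : (Fin t → W ⧸ pW) →ₗ[W ⧸ pW] M ⧸ pW • (⊤ : Submodule W M) := Fintype.linearCombination (W ⧸ pW) e'
  let g : M →ₗ[W] (Fin t → W ⧸ pW) := LinearMap.pi fun i =>
    (Submodule.mapQ P pW LinearMap.id (fun x hx => hP hx)).comp (f i)
  have hg : pW • (⊤ : Submodule W M) ≤ LinearMap.ker g := by
    intro x hx
    obtain ⟨w, rfl⟩ := mem_smul_span.1 hx
    rw [LinearMap.mem_ker, map_smul, ← algebraMap_smul (W ⧸ pW) (p : W) (g w)]
    rw [show algebraMap W (W ⧸ pW) (p : W) = 0 from Ideal.Quotient.eq_zero_iff_mem.2 (Ideal.mem_span_singleton_self _), zero_smul]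
  let s : (M ⧸ pW • (⊤ : Submodule W M)) →ₗ[W ⧸ pW] (Fin t → W ⧸ pW) :=
    ((pW • (⊤ : Submodule W M)).liftQ g hg).extendScalarsOfSurjective Ideal.Quotient.mk_surjective
  have hsplit : π.comp s = LinearMap.id := by
    refine LinearMap.ext fun y => ?_
    obtain ⟨x, rfl⟩ := Submodule.Quotient.mk_surjective _ y
    choose w hw using fun i => Ideal.Quotient.mk_surjective (f i x)
    have hgw : ∀ i, g x i = Ideal.Quotient.mk pW (w i) := fun i => by
      show Submodule.mapQ P pW LinearMap.id (fun x hx => hP hx) (f i x) = _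
      rw [← hw i]
      rfl
    show π (g x) = _
    rw [Fintype.linearCombination_apply]
    conv_rhs => rw [LinearMap.id_apply, hef x w hw]
    rw [← Submodule.mkQ_apply, map_sum]
    refine Finset.sum_congr rfl fun i _ => ?_
    rw [hgw, map_smul]
    rfl
  have hsurj : Function.Surjective π := fun y => ⟨s y, LinearMap.congr_fun hsplit y⟩
  exact ⟨Module.Finite.of_surjective π hsurj, Module.Projective.of_split s π hsplit⟩

/-- The universe-free form of `projective_quot_of_exact`. -/
theorem projective_quot_of_exact' {R : Type u} [CommRing R] [IsReduced R] {N : Type v} [AddCommGroup N]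
    [Module R N] [Module.Finite R N] [Module.Projective R N] (τ : R ≃+* R) (G : N →+ N)
    (hG : ∀ (r : R) n, G (r • n) = τ r • G n) (hτ : ∀ (q : Ideal R) [q.IsPrime], ∀ r, τ r ∈ q ↔ r ∈ q)
    (Q : Submodule R N) (hQ : ∀ x ∈ Q, G x = 0)
    (hex : ∀ (q : Ideal R) [q.IsPrime], ∀ n, G n ∈ q • (⊤ : Submodule R N) → n ∈ Q ⊔ q • (⊤ : Submodule R N)) :
    Module.Projective R (N ⧸ Q) := by
  obtain ⟨t, π, hπ⟩ := Module.Finite.exists_fin' R N
  obtain ⟨s, hs⟩ := Module.projective_lifting_property π LinearMap.id hπ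
  have hsi : Function.Injective s := fun x y h => by
    simpa [show π (s x) = x from LinearMap.congr_fun hs x, show π (s y) = y from LinearMap.congr_fun hs y]
      using congrArg π h
  let e : N ≃ₗ[R] LinearMap.range s := LinearEquiv.ofInjective s hsi
  haveI : Module.Finite R (LinearMap.range s) := Module.Finite.equiv e
  haveI : Module.Projective R (LinearMap.range s) := Module.Projective.of_equiv e
  let G' : LinearMap.range s →+ LinearMap.range s :=
    e.toAddEquiv.toAddMonoidHom.comp (G.comp e.symm.toAddEquiv.toAddMonoidHom)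
  have hmap : ∀ q : Ideal R, (q • (⊤ : Submodule R N)).map e.toLinearMap = q • ⊤ := fun q => by
    rw [Submodule.map_smul'', Submodule.map_top, LinearEquiv.range]
  have key : Module.Projective R (LinearMap.range s ⧸ Q.map e.toLinearMap) := by
    refine projective_quot_of_exact τ G' (fun r n => ?_) hτ (Q.map e.toLinearMap) ?_ ?_
    · show e (G (e.symm (r • n))) = τ r • e (G (e.symm n))
      rw [map_smul, hG, map_smul]
    · rintro _ ⟨x, hx, rfl⟩
      show e (G (e.symm (e x))) = 0
      rw [e.symm_apply_apply, hQ x hx, map_zero]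
    · intro q _ n hn
      obtain ⟨m, rfl⟩ := e.surjective n
      have hm : G m ∈ q • (⊤ : Submodule R N) := by
        rw [← hmap] at hn
        obtain ⟨x, hx, hxe⟩ := hn
        have h2 : x = G (e.symm (e m)) := e.injective hxe
        rwa [h2, e.symm_apply_apply] at hx
      have := Submodule.mem_map_of_mem (f := e.toLinearMap) (hex q m hm)
      rwa [Submodule.map_sup, hmap] at this
  exact Module.Projective.of_equiv (Submodule.Quotient.equiv Q (Q.map e.toLinearMap) e rfl).symm

include hFV hVF in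
/-- The cokernel of `V` modulo `p` is projective. -/
theorem projective_modV {P : Ideal W} (hc : Coord p k M P) (hPle : P ≤ pW)
    (hP : ∀ (q : Ideal k), q.IsRadical → ∀ y : W, (p : W) * y ∈ wKer p q ⊔ P → y ∈ wKer p q ⊔ pW) :
    Module.Projective (W ⧸ pW)
      ((M ⧸ (pW • (⊤ : Submodule W M))) ⧸
        Submodule.span (W ⧸ pW) (Set.range fun m : M => (pW • (⊤ : Submodule W M)).mkQ (V m))) := by
  obtain ⟨_, _⟩ := projective_modP hPle hc
  haveI : IsReduced (W ⧸ pW) := isReduced_res
  set N₀ := pW • (⊤ : Submodule W M) with hN₀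
  have hFp : N₀ ≤ N₀.comap F := fun m hm => by
    obtain ⟨w, rfl⟩ := mem_smul_span.1 hm
    exact mem_smul_span.2 ⟨F w, by rw [map_smulₛₗ, map_natCast]⟩
  let G : (M ⧸ N₀) →ₛₗ[σ] (M ⧸ N₀) := N₀.mapQ N₀ F hFp
  refine projective_quot_of_exact' resSigma G.toAddMonoidHom (fun r n => ?_) resSigma_mem_iff _ (fun x hx => ?_) ?_
  · obtain ⟨r, rfl⟩ := Ideal.Quotient.mk_surjective r
    rw [resSigma_mk]
    exact G.map_smulₛₗ r n
  · refine Submodule.span_induction (p := fun x _ => G x = 0) ?_ (map_zero G)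
      (fun a b _ _ ha hb => by rw [map_add, ha, hb, add_zero]) (fun c a _ ha => ?_) hx
    · rintro _ ⟨m, rfl⟩
      show Submodule.Quotient.mk (F (V m)) = 0
      rw [Submodule.Quotient.mk_eq_zero, hFV]
      exact mem_smul_span.2 ⟨m, rfl⟩
    · obtain ⟨c, rfl⟩ := Ideal.Quotient.mk_surjective c
      show G (c • a) = 0
      rw [map_smulₛₗ, ha, smul_zero]
  · intro Pq _ n hn
    obtain ⟨m, rfl⟩ := Submodule.Quotient.mk_surjective _ n
    let q : Ideal k := Pq.comap (WittVector.quotientPEquiv (p := p) (k := k)).symm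
    have hq : q.IsRadical := (Ideal.comap_isPrime _ _).isRadical
    have hcq : Pq.comap (Ideal.Quotient.mk pW) = wKer p q ⊔ pW := by
      rw [← comap_constantCoeff_eq]
      ext w
      simp only [Ideal.mem_comap, q]
      rw [show (WittVector.constantCoeff w : k) = WittVector.quotientPEquiv (Ideal.Quotient.mk pW w) from rfl,
        RingEquiv.symm_apply_apply]
    have hlift : ∀ y ∈ Pq • (⊤ : Submodule (W ⧸ pW) (M ⧸ N₀)), ∀ x : M, Submodule.Quotient.mk x = y →
        x ∈ (wKer p q ⊔ pW) • (⊤ : Submodule W M) := by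
      intro y hy
      refine Submodule.smul_induction_on hy (fun r hr z _ x hx => ?_) (fun a b ha hb x hx => ?_)
      · obtain ⟨r, rfl⟩ := Ideal.Quotient.mk_surjective r
        obtain ⟨z, rfl⟩ := Submodule.Quotient.mk_surjective _ z
        have h1 : x - r • z ∈ N₀ := (Submodule.Quotient.eq N₀).1 (hx.trans rfl)
        have h2 : r • z ∈ (wKer p q ⊔ pW) • (⊤ : Submodule W M) :=
          Submodule.smul_mem_smul (hcq ▸ hr) Submodule.mem_top
        simpa using add_mem (Submodule.smul_mono le_sup_right le_rfl h1) h2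
      · obtain ⟨a', rfl⟩ := Submodule.Quotient.mk_surjective _ a
        obtain ⟨b', rfl⟩ := Submodule.Quotient.mk_surjective _ b
        have h1 : x - (a' + b') ∈ N₀ := (Submodule.Quotient.eq N₀).1 hx
        simpa using add_mem (Submodule.smul_mono le_sup_right le_rfl h1) (add_mem (ha a' rfl) (hb b' rfl))
    have hFm := hlift _ hn (F m) rfl
    rw [Submodule.sup_smul, Submodule.mem_sup] at hFm
    obtain ⟨x, hx, y, hy, hxy⟩ := hFm
    obtain ⟨w, rfl⟩ := mem_smul_span.1 hy
    have hp' : (p : W) • (m - V w) ∈ wKer p q • (⊤ : Submodule W M) := by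
      rw [← hVF, show F (m - V w) = x by rw [map_sub, hFV, ← hxy, add_sub_cancel_right]]
      exact Submodule.smul_induction_on hx
        (fun r hr z _ => by rw [map_smulₛₗ]; exact Submodule.smul_mem_smul (sigma_symm_mem_wKer hq hr) Submodule.mem_top)
        (fun a b ha hb => by rw [map_add]; exact add_mem ha hb)
    have h3 := mem_of_p_smul_mem hc _ _ (hP q hq) hp'
    have h4 : ∀ z ∈ (wKer p q ⊔ pW) • (⊤ : Submodule W M),
        (Submodule.Quotient.mk z : M ⧸ N₀) ∈ Pq • (⊤ : Submodule (W ⧸ pW) (M ⧸ N₀)) := fun z hz =>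
      Submodule.smul_induction_on hz
        (fun r hr z _ => Submodule.smul_mem_smul (show Ideal.Quotient.mk pW r ∈ Pq from (hcq.symm ▸ hr : r ∈ Pq.comap _))
          (Submodule.mem_top (x := Submodule.Quotient.mk z)))
        (fun a b ha hb => add_mem ha hb)
    have h5 := Submodule.add_mem_sup (Submodule.subset_span (R := W ⧸ pW)
      (Set.mem_range_self (f := fun m : M => N₀.mkQ (V m)) w)) (h4 _ h3)
    rw [show (Submodule.Quotient.mk m : M ⧸ N₀) = N₀.mkQ (V w) + Submodule.Quotient.mk (m - V w) by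
      rw [Submodule.mkQ_apply, ← Submodule.Quotient.mk_add, add_sub_cancel]]
    exact h5

end Groth.Agent.Disp23
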