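import Groth.Agent.Lib.Fitting.Local
import Groth.Agent.Lib.FlatCx.RankExact
import Mathlib.RingTheory.Spectrum.Prime.FreeLocus
import Mathlib.RingTheory.LocalRing.ResidueField.Ideal
import Mathlib.LinearAlgebra.TensorProduct.RightExactness
import Mathlib.LinearAlgebra.FiniteDimensional.Lemmas
import Mathlib.LinearAlgebra.Basis.VectorSpace
import Mathlib.RingTheory.TensorProduct.Finite

/-!
# Cokernels in a periodic complex with bijective twist

Over a reduced ring, if a semilinear endomorphism (for a twist fixing every prime) of a finite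
projective module has, at every prime, the kernel of the fibre spanned by a submodule `Q` killed by
it, then the quotient by `Q` is projective.
-/

universe u v

open TensorProduct

noncomputable section

namespace Groth.Agent.Disp23

variable {R : Type u} [CommRing R] {N : Type u} [AddCommGroup N] [Module R N]

variable {K : Type u} [Field K] [Algebra R K]

variable (K) in
/-- The span of a submodule in the fibre. -/
def fibSpan (Q : Submodule R N) : Submodule K (K ⊗[R] N) :=
  Submodule.span K ((fun n => (1 : K) ⊗ₜ[R] n) '' (Q : Set N))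

theorem tmul_eq_zero_iff [Module.Finite R N] [Module.Projective R N] {p : Ideal R}
    (hker : ∀ r, algebraMap R K r = 0 ↔ r ∈ p) (n : N) :
    (1 : K) ⊗ₜ[R] n = 0 ↔ n ∈ p • (⊤ : Submodule R N) := by
  constructor
  · intro h
    obtain ⟨t, π, hπ⟩ := Module.Finite.exists_fin' R N
    obtain ⟨s, hs⟩ := Module.projective_lifting_property π LinearMap.id hπ
    have hsn : ∀ i, s n i ∈ p := fun i => by
      have := congrArg (((LinearMap.proj i).comp s).baseChange K) h
      rw [LinearMap.baseChange_tmul, map_zero] at this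
      have h1 := congrArg (TensorProduct.rid R K) this
      rw [map_zero, TensorProduct.rid_tmul, LinearMap.comp_apply, LinearMap.proj_apply,
        ← Algebra.algebraMap_eq_smul_one] at h1
      exact (hker _).1 h1
    classical
    rw [show n = π (s n) from (LinearMap.congr_fun hs n).symm, pi_eq_sum_univ' (s n), map_sum]
    exact sum_mem fun i _ => by rw [map_smul]; exact Submodule.smul_mem_smul (hsn i) Submodule.mem_top
  · intro h
    refine Submodule.smul_induction_on h (fun r hr x _ => ?_) (fun x y hx hy => by rw [tmul_add, hx, hy, add_zero])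
    rw [tmul_smul, ← algebraMap_smul K r, (hker r).2 hr, zero_smul]

variable {p : Ideal R}

theorem exists_clear [hp : p.IsPrime] (hfr : ∀ a : K, ∃ b c : R, c ∉ p ∧ algebraMap R K c * a = algebraMap R K b)
    {ι : Type*} (s : Finset ι) (a : ι → K) :
    ∃ c : R, c ∉ p ∧ ∀ i ∈ s, ∃ b : R, algebraMap R K c * a i = algebraMap R K b := by
  classical
  induction s using Finset.induction_on with
  | empty => exact ⟨1, fun h => hp.ne_top ((Ideal.eq_top_iff_one p).2 h), fun i hi => absurd hi (Finset.notMem_empty i)⟩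
  | insert x s hx ih =>
    obtain ⟨c, hc, hcs⟩ := ih
    obtain ⟨b, c', hc', hb⟩ := hfr (a x)
    refine ⟨c * c', fun h => (hp.mem_or_mem h).elim hc hc', fun i hi => ?_⟩
    rcases Finset.mem_insert.1 hi with rfl | hi
    · exact ⟨c * b, by rw [map_mul, map_mul, mul_assoc, hb]⟩
    · obtain ⟨d, hd⟩ := hcs i hi
      exact ⟨c' * d, by rw [map_mul, map_mul, mul_comm (algebraMap R K c), mul_assoc, hd]⟩

theorem exists_notMem_smul_eq_tmul [hp : p.IsPrime]
    (hfr : ∀ a : K, ∃ b c : R, c ∉ p ∧ algebraMap R K c * a = algebraMap R K b) (z : K ⊗[R] N) :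
    ∃ u : R, u ∉ p ∧ ∃ n : N, u • z = (1 : K) ⊗ₜ[R] n := by
  induction z using TensorProduct.induction_on with
  | zero => exact ⟨1, fun h => hp.ne_top ((Ideal.eq_top_iff_one p).2 h), 0, by simp⟩
  | tmul a x =>
    obtain ⟨b, c, hc, hb⟩ := hfr a
    refine ⟨c, hc, b • x, ?_⟩
    rw [TensorProduct.smul_tmul', Algebra.smul_def, hb, tmul_smul, TensorProduct.smul_tmul' b,
      ← Algebra.algebraMap_eq_smul_one]
  | add z w hz hw =>
    obtain ⟨u, hu, n, hn⟩ := hz
    obtain ⟨v, hv, m, hm⟩ := hw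
    refine ⟨u * v, fun h => (hp.mem_or_mem h).elim hu hv, v • n + u • m, ?_⟩
    rw [smul_add, tmul_add, tmul_smul, tmul_smul, ← hn, ← hm, smul_smul, smul_smul, mul_comm v u]

theorem mem_sup_of_tmul_mem [Module.Finite R N] [Module.Projective R N] [hp : p.IsPrime]
    (hker : ∀ r, algebraMap R K r = 0 ↔ r ∈ p)
    (hfr : ∀ a : K, ∃ b c : R, c ∉ p ∧ algebraMap R K c * a = algebraMap R K b)
    {Q : Submodule R N} {n : N} (h : (1 : K) ⊗ₜ[R] n ∈ fibSpan K Q) :
    ∃ u : R, u ∉ p ∧ u • n ∈ Q ⊔ p • (⊤ : Submodule R N) := by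
  suffices H : ∀ z ∈ fibSpan K Q, ∀ a : K, ∃ u : R, u ∉ p ∧ ∃ q ∈ Q, u • a • z = (1 : K) ⊗ₜ[R] q by
    obtain ⟨u, hu, q, hq, he⟩ := H _ h 1
    rw [one_smul, ← tmul_smul] at he
    refine ⟨u, hu, ?_⟩
    have : u • n - q ∈ p • (⊤ : Submodule R N) :=
      (tmul_eq_zero_iff hker _).1 (by rw [tmul_sub, he, sub_self])
    simpa using Submodule.add_mem_sup hq this
  intro z hz
  refine Submodule.span_induction (p := fun z _ => ∀ a : K, ∃ u : R, u ∉ p ∧ ∃ q ∈ Q,
    u • a • z = (1 : K) ⊗ₜ[R] q) ?_ ?_ ?_ ?_ hz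
  · rintro _ ⟨q, hq, rfl⟩ a
    obtain ⟨b, c, hc, hb⟩ := hfr a
    refine ⟨c, hc, b • q, Q.smul_mem b hq, ?_⟩
    rw [TensorProduct.smul_tmul', TensorProduct.smul_tmul', smul_eq_mul, mul_one, Algebra.smul_def, hb, tmul_smul,
      TensorProduct.smul_tmul' b, ← Algebra.algebraMap_eq_smul_one]
  · exact fun a => ⟨1, fun h => hp.ne_top ((Ideal.eq_top_iff_one p).2 h), 0, Q.zero_mem, by simp⟩
  · intro x y _ _ hx hy a
    obtain ⟨u, hu, q, hq, he⟩ := hx a
    obtain ⟨v, hv, q', hq', he'⟩ := hy a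
    refine ⟨u * v, fun h => (hp.mem_or_mem h).elim hu hv, v • q + u • q', Q.add_mem (Q.smul_mem v hq) (Q.smul_mem u hq'), ?_⟩
    rw [smul_add, smul_add, tmul_add, tmul_smul, tmul_smul, ← he, ← he', smul_smul v u, smul_smul u v,
      mul_comm v u]
  · intro c x _ hx a
    rw [smul_smul a c]
    exact hx _

theorem finrank_quot_add [Module.Finite R N] (Q : Submodule R N) :
    Module.finrank K (K ⊗[R] (N ⧸ Q)) + Module.finrank K (fibSpan K Q) = Module.finrank K (K ⊗[R] N) := by
  let f := Q.mkQ.baseChange K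
  have hf : Function.Surjective f := LinearMap.lTensor_surjective K Q.mkQ_surjective
  have hker : LinearMap.ker f = fibSpan K Q := by
    refine le_antisymm (fun z hz => ?_) (Submodule.span_le.2 ?_)
    · obtain ⟨w, rfl⟩ := (lTensor_exact K (LinearMap.exact_subtype_mkQ Q) Q.mkQ_surjective z).1 hz
      clear hz
      induction w using TensorProduct.induction_on with
      | zero => rw [map_zero]; exact zero_mem _
      | tmul a q =>
        rw [LinearMap.lTensor_tmul, show a ⊗ₜ[R] (Q.subtype q) = a • ((1 : K) ⊗ₜ[R] (q : N)) by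
          rw [TensorProduct.smul_tmul', smul_eq_mul, mul_one]; rfl]
        exact Submodule.smul_mem _ _ (Submodule.subset_span ⟨q, q.2, rfl⟩)
      | add w w' hw hw' => rw [map_add]; exact add_mem hw hw'
    · rintro _ ⟨q, hq, rfl⟩
      rw [SetLike.mem_coe, LinearMap.mem_ker, LinearMap.baseChange_tmul,
        show Q.mkQ q = 0 from (Submodule.Quotient.mk_eq_zero Q).2 hq, tmul_zero]
  rw [← f.finrank_range_add_finrank_ker, hker, LinearMap.range_eq_top.2 hf, finrank_top]

theorem eventually_fibRank_le {M : Type u} [AddCommGroup M] [Module R M] [Module.Finite R M]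
    (x : PrimeSpectrum R) : ∀ᶠ y in nhds x, FlatCxLib.fibRank M y ≤ FlatCxLib.fibRank M x :=
  Filter.eventually_of_mem
    ((PrimeSpectrum.isClosed_zeroLocus (Fitt.ideal R M (FlatCxLib.fibRank M x) : Set R)).isOpen_compl.mem_nhds
      ((FittingLib.not_le_iff_finrank_fiber_le _ x.asIdeal).2 le_rfl))
    fun y hy => (FittingLib.not_le_iff_finrank_fiber_le _ y.asIdeal).1 hy

theorem exists_fun_of_scaling {K : Type*} [Field K] {V : Type*} [AddCommGroup V] [Module K V]
    [Module.Finite K V] {α : Type*} {f : α → V}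
    (hf : ∀ z : V, ∃ c : K, c ≠ 0 ∧ ∃ n, c • z = f n) (A' : Submodule K V) :
    ∃ (m : ℕ) (w : Fin m → α), LinearIndependent K (fun i => f (w i)) ∧
      Submodule.span K (Set.range fun i => f (w i)) = A' := by
  obtain ⟨b, hb, hspan, hli⟩ := exists_linearIndependent K ((A' : Set V) ∩ Set.range f)
  have hfin : Finite b := LinearIndependent.finite hli
  obtain ⟨m, ⟨e⟩⟩ := Finite.exists_equiv_fin b
  choose w hw using fun i : Fin m => (hb (e.symm i).2).2
  have he : (fun i => f (w i)) = Subtype.val ∘ e.symm := funext hw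
  refine ⟨m, w, by rw [he]; exact hli.comp _ e.symm.injective, ?_⟩
  rw [he, Set.range_comp, e.symm.range_eq_univ, Set.image_univ, Subtype.range_coe, hspan]
  refine le_antisymm (Submodule.span_le.2 Set.inter_subset_left) fun z hz => ?_
  obtain ⟨c, hc, n, hn⟩ := hf z
  rw [← inv_smul_smul₀ hc z]
  exact Submodule.smul_mem _ _ (Submodule.subset_span ⟨A'.smul_mem c hz, n, hn.symm⟩)

theorem finrank_span_image_eq [Module.Finite R N] [Module.Projective R N] [hp : p.IsPrime]
    (hker : ∀ r, algebraMap R K r = 0 ↔ r ∈ p)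
    (hfr : ∀ a : K, ∃ b c : R, c ∉ p ∧ algebraMap R K c * a = algebraMap R K b) (σ : R ≃+* R) (F : N →+ N)
    (hF : ∀ (r : R) n, F (r • n) = σ r • F n) (hσ : ∀ r, σ r ∈ p ↔ r ∈ p)
    (Q : Submodule R N) (hQ : ∀ q ∈ Q, F q = 0)
    (hex : ∀ n, F n ∈ p • (⊤ : Submodule R N) → n ∈ Q ⊔ p • (⊤ : Submodule R N)) :
    Module.finrank K (fibSpan K (Submodule.span R (Set.range F))) + Module.finrank K (fibSpan K Q) =
      Module.finrank K (K ⊗[R] N) := by
  classical
  have hFp : ∀ x ∈ p • (⊤ : Submodule R N), F x ∈ p • (⊤ : Submodule R N) := fun x hx =>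
    Submodule.smul_induction_on hx
      (fun r hr y _ => by rw [hF]; exact Submodule.smul_mem_smul ((hσ r).2 hr) Submodule.mem_top)
      fun a b ha hb => by rw [map_add]; exact add_mem ha hb
  have hne : ∀ c : R, c ∉ p → algebraMap R K c ≠ 0 := fun c hc h => hc ((hker c).1 h)
  obtain ⟨A', hA'⟩ := Submodule.exists_isCompl (fibSpan K Q)
  obtain ⟨m, w, hli', hsp'⟩ : ∃ (m : ℕ) (w : Fin m → N),
      LinearIndependent K (fun i => (1 : K) ⊗ₜ[R] w i) ∧
      Submodule.span K (Set.range fun i => (1 : K) ⊗ₜ[R] w i) = A' := by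
    refine exists_fun_of_scaling (V := K ⊗[R] N) (f := fun n => (1 : K) ⊗ₜ[R] n) (fun z => ?_) A'
    obtain ⟨u, hu, n, hn⟩ := exists_notMem_smul_eq_tmul hfr z
    exact ⟨algebraMap R K u, hne u hu, n, (algebraMap_smul K u z).trans hn⟩
  have hli : LinearIndependent K fun i => (1 : K) ⊗ₜ[R] F (w i) := by
    rw [Fintype.linearIndependent_iff]
    intro a ha
    obtain ⟨c, hc, hca⟩ := exists_clear hfr Finset.univ a
    choose r hr using fun i => hca i (Finset.mem_univ i)
    have h0 : (1 : K) ⊗ₜ[R] F (∑ i, σ.symm (r i) • w i) = 0 := by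
      rw [map_sum, tmul_sum]
      simp only [hF, RingEquiv.apply_symm_apply, tmul_smul]
      calc ∑ i, r i • ((1 : K) ⊗ₜ[R] F (w i))
          = ∑ i, algebraMap R K c • a i • ((1 : K) ⊗ₜ[R] F (w i)) :=
            Finset.sum_congr rfl fun i _ => by rw [← algebraMap_smul K (r i), ← hr, mul_smul]
        _ = 0 := by rw [← Finset.smul_sum, ha, smul_zero]
    obtain ⟨q, hq, x, hx, hqx⟩ := Submodule.mem_sup.1 (hex _ ((tmul_eq_zero_iff hker _).1 h0))
    have h2 : (1 : K) ⊗ₜ[R] (∑ i, σ.symm (r i) • w i) ∈ fibSpan K Q := by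
      rw [← hqx, tmul_add, (tmul_eq_zero_iff hker x).2 hx, add_zero]
      exact Submodule.subset_span ⟨q, hq, rfl⟩
    have h2' : (1 : K) ⊗ₜ[R] (∑ i, σ.symm (r i) • w i) ∈ A' := by
      rw [tmul_sum, ← hsp']
      exact sum_mem fun i _ => by
        rw [tmul_smul]
        exact Submodule.smul_of_tower_mem _ _ (Submodule.subset_span ⟨i, rfl⟩)
    have h4 : ∑ i, algebraMap R K (σ.symm (r i)) • ((1 : K) ⊗ₜ[R] w i) = 0 := by
      simp only [algebraMap_smul, ← tmul_smul, ← tmul_sum]
      exact Submodule.disjoint_def.1 hA'.disjoint _ h2 h2'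
    intro i
    have h5 : σ.symm (r i) ∈ p := (hker _).1 (Fintype.linearIndependent_iff.1 hli' _ h4 i)
    rw [← hσ, RingEquiv.apply_symm_apply] at h5
    have h6 := hr i
    rw [(hker _).2 h5, mul_eq_zero] at h6
    exact h6.resolve_left (hne c hc)
  have hspan : fibSpan K (Submodule.span R (Set.range F)) =
      Submodule.span K (Set.range fun i => (1 : K) ⊗ₜ[R] F (w i)) := by
    refine le_antisymm (Submodule.span_le.2 ?_) (Submodule.span_le.2 ?_)
    · rintro _ ⟨y, hy, rfl⟩
      rw [SetLike.mem_coe]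
      refine Submodule.span_induction (p := fun y _ => (1 : K) ⊗ₜ[R] y ∈
        Submodule.span K (Set.range fun i => (1 : K) ⊗ₜ[R] F (w i))) ?_ (by simp)
        (fun a b _ _ ha hb => by rw [tmul_add]; exact add_mem ha hb)
        (fun c a _ ha => by rw [tmul_smul]; exact Submodule.smul_of_tower_mem _ c ha) hy
      rintro _ ⟨z, rfl⟩
      have hmem : (1 : K) ⊗ₜ[R] z ∈ fibSpan K Q ⊔ A' := by rw [hA'.sup_eq_top]; trivial
      obtain ⟨x, hx, y, hy, hxy⟩ := Submodule.mem_sup.1 hmem
      rw [← hsp'] at hy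
      obtain ⟨a, rfl⟩ := (Submodule.mem_span_range_iff_exists_fun K).1 hy
      obtain ⟨c, hc, hca⟩ := exists_clear hfr Finset.univ a
      choose r hr using fun i => hca i (Finset.mem_univ i)
      have hcx : (1 : K) ⊗ₜ[R] (c • z - ∑ i, r i • w i) ∈ fibSpan K Q := by
        have : (1 : K) ⊗ₜ[R] (c • z - ∑ i, r i • w i) = algebraMap R K c • x := by
          rw [tmul_sub, tmul_smul, tmul_sum, ← algebraMap_smul K c, ← hxy, smul_add, Finset.smul_sum,
            sub_eq_iff_eq_add]
          congr 1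
          exact Finset.sum_congr rfl fun i _ => by rw [tmul_smul, smul_smul, hr, algebraMap_smul]
        rw [this]
        exact Submodule.smul_mem _ _ hx
      obtain ⟨v, hv, hvm⟩ := mem_sup_of_tmul_mem hker hfr hcx
      obtain ⟨q, hq, x', hx', hqx⟩ := Submodule.mem_sup.1 hvm
      have h8 : F (v • (c • z - ∑ i, r i • w i)) ∈ p • (⊤ : Submodule R N) := by
        rw [← hqx, map_add, hQ q hq, zero_add]
        exact hFp _ hx'
      have h9 := (tmul_eq_zero_iff hker _).2 h8
      simp only [hF, map_sub, map_sum, tmul_sub, tmul_sum, tmul_smul, smul_sub, Finset.smul_sum, smul_smul] at h9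
      rw [sub_eq_zero] at h9
      have hvc : algebraMap R K (σ v * σ c) ≠ 0 := hne _ fun h => by
        rw [← map_mul, hσ] at h
        exact (hp.mem_or_mem h).elim hv hc
      rw [← inv_smul_smul₀ hvc ((1 : K) ⊗ₜ[R] F z), algebraMap_smul, ← map_mul σ v c, h9]
      exact Submodule.smul_mem _ _ (sum_mem fun i _ =>
        Submodule.smul_of_tower_mem _ _ (Submodule.subset_span ⟨i, rfl⟩))
    · rintro _ ⟨i, rfl⟩
      exact Submodule.subset_span ⟨F (w i), Submodule.subset_span ⟨w i, rfl⟩, rfl⟩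
  rw [hspan, finrank_span_eq_card hli, Fintype.card_fin, ← finrank_span_eq_card hli' |>.trans (Fintype.card_fin m),
    hsp', add_comm, Submodule.finrank_add_eq_of_isCompl hA']

theorem residueField_frac (p : Ideal R) [p.IsPrime] (a : p.ResidueField) :
    ∃ b c : R, c ∉ p ∧ algebraMap R p.ResidueField c * a = algebraMap R p.ResidueField b := by
  obtain ⟨b, c, hc, rfl⟩ := IsFractionRing.div_surjective (A := R ⧸ p) a
  obtain ⟨b, rfl⟩ := Ideal.Quotient.mk_surjective b
  obtain ⟨c, rfl⟩ := Ideal.Quotient.mk_surjective c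
  have hc' : c ∉ p := fun h => nonZeroDivisors.ne_zero hc (Ideal.Quotient.eq_zero_iff_mem.2 h)
  exact ⟨b, c, hc', mul_div_cancel₀ _ fun h0 => hc' (Ideal.algebraMap_residueField_eq_zero.1 h0)⟩

theorem projective_quot_of_exact [IsReduced R] [Module.Finite R N] [Module.Projective R N] (σ : R ≃+* R)
    (F : N →+ N) (hF : ∀ (r : R) n, F (r • n) = σ r • F n)
    (hσ : ∀ (p : Ideal R) [p.IsPrime], ∀ r, σ r ∈ p ↔ r ∈ p) (Q : Submodule R N) (hQ : ∀ q ∈ Q, F q = 0)
    (hex : ∀ (p : Ideal R) [p.IsPrime], ∀ n, F n ∈ p • (⊤ : Submodule R N) → n ∈ Q ⊔ p • (⊤ : Submodule R N)) :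
    Module.Projective R (N ⧸ Q) := by
  refine FlatCxLib.projective_of_fibRank_eventually fun m _ => ?_
  have key : ∀ y : PrimeSpectrum R, FlatCxLib.fibRank (N ⧸ Q) y +
      FlatCxLib.fibRank (N ⧸ Submodule.span R (Set.range F)) y = Module.rankAtStalk N y := fun y => by
    have h1 := finrank_quot_add (K := y.asIdeal.ResidueField) Q
    have h2 := finrank_quot_add (K := y.asIdeal.ResidueField) (Submodule.span R (Set.range F))
    have h3 := finrank_span_image_eq (K := y.asIdeal.ResidueField)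
      (fun r => Ideal.algebraMap_residueField_eq_zero) (residueField_frac y.asIdeal) σ F hF (hσ y.asIdeal) Q hQ
      (hex y.asIdeal)
    rw [← FlatCxLib.fibRank_eq_rankAtStalk]
    unfold FlatCxLib.fibRank
    omega
  have := Module.finitePresentation_of_projective R N
  filter_upwards [eventually_fibRank_le (M := N ⧸ Q) ⟨m, inferInstance⟩,
    eventually_fibRank_le (M := N ⧸ Submodule.span R (Set.range F)) ⟨m, inferInstance⟩,
    (Module.isLocallyConstant_rankAtStalk (R := R) (M := N)).eventually_eq ⟨m, inferInstance⟩] with y h1 h2 h3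
  have := key y
  have := key ⟨m, inferInstance⟩
  omega

end Groth.Agent.Disp23
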