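import Groth.Agent.Lib.Disp23.BaseChange
import Mathlib.Algebra.TrivSqZeroExt.Basic

/-!
# Witt vectors with coefficients in an ideal of square zero
-/

universe u v

open W4c1extbt610

noncomputable section

namespace Groth.Agent.Disp23

variable {p : ℕ} [Fact p.Prime]

theorem ghost_sqzero {A : Type u} [CommRing A] (x : WittVector p A) (h : ∀ i, x.coeff i ^ 2 = 0) (n : ℕ) :
    WittVector.ghostComponent n x = (p : A) ^ n * x.coeff n := by
  rw [WittVector.ghostComponent_apply, aeval_wittPolynomial, Finset.sum_eq_single n]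
  · rw [Nat.sub_self, pow_zero, pow_one]
  · intro i hi hin
    rw [Finset.mem_range] at hi
    have h2 : 2 ≤ p ^ (n - i) := (Fact.out : p.Prime).two_le.trans (Nat.le_self_pow (by omega) p)
    rw [pow_eq_zero_of_le h2 (h i), mul_zero]
  · intro hn
    exact absurd (Finset.self_mem_range_succ n) hn

/-- Index of the universal square-zero coefficients. -/
abbrev UIdx := (Fin 2 × ℕ) →₀ ℤ

/-- The universal ring with two families of square-zero coefficients. -/
abbrev URing := TrivSqZeroExt ℤ UIdx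

/-- The two universal Witt vectors. -/
def uVec (k : Fin 2) : WittVector p URing := WittVector.mk p fun n => TrivSqZeroExt.inr (Finsupp.single (k, n) 1)

theorem uRing_cancel {m : ℕ} (hm : m ≠ 0) {a b : URing} (h : (m : URing) * a = m * b) : a = b := by
  rw [← nsmul_eq_mul, ← nsmul_eq_mul] at h
  refine TrivSqZeroExt.ext ?_ ?_
  · have := congrArg TrivSqZeroExt.fst h
    rw [TrivSqZeroExt.fst_smul, TrivSqZeroExt.fst_smul] at this
    exact smul_right_injective ℤ hm this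
  · have := congrArg TrivSqZeroExt.snd h
    rw [TrivSqZeroExt.snd_smul, TrivSqZeroExt.snd_smul] at this
    ext j
    have h' := DFunLike.congr_fun this j
    rw [Finsupp.smul_apply, Finsupp.smul_apply] at h'
    exact smul_right_injective ℤ hm h'

theorem coeff_sq_eq_zero_of_map_fst (x : WittVector p URing)
    (hx : WittVector.map (TrivSqZeroExt.fstHom ℤ ℤ UIdx).toRingHom x = 0) (i : ℕ) : x.coeff i ^ 2 = 0 := by
  have h : (x.coeff i).fst = 0 := by
    have := congrArg (fun y : WittVector p ℤ => y.coeff i) hx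
    simpa [WittVector.map_coeff] using this
  rw [← TrivSqZeroExt.inl_fst_add_inr_snd_eq (x.coeff i), h, TrivSqZeroExt.inl_zero, zero_add, sq,
    TrivSqZeroExt.inr_mul_inr]

theorem map_fst_uVec (k : Fin 2) :
    WittVector.map (TrivSqZeroExt.fstHom ℤ ℤ UIdx).toRingHom (uVec (p := p) k) = 0 := by
  ext n
  rw [WittVector.map_coeff, WittVector.zero_coeff]
  show (TrivSqZeroExt.inr (Finsupp.single (k, n) 1) : URing).fst = 0
  exact TrivSqZeroExt.fst_inr _ _

theorem uVec_add (n : ℕ) :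
    (uVec (p := p) 0 + uVec 1).coeff n = (uVec (p := p) 0).coeff n + (uVec (p := p) 1).coeff n := by
  have h := map_add (WittVector.ghostComponent (p := p) (R := URing) n) (uVec 0) (uVec 1)
  rw [ghost_sqzero _ (coeff_sq_eq_zero_of_map_fst _ (map_fst_uVec 0)),
    ghost_sqzero _ (coeff_sq_eq_zero_of_map_fst _ (map_fst_uVec 1)),
    ghost_sqzero _ (coeff_sq_eq_zero_of_map_fst _ (by rw [map_add, map_fst_uVec, map_fst_uVec, add_zero])),
    ← mul_add, ← Nat.cast_pow] at h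
  exact uRing_cancel (pow_ne_zero _ (Fact.out : p.Prime).ne_zero) h

theorem uVec_frobenius (n : ℕ) :
    (WittVector.frobenius (uVec (p := p) 0)).coeff n = (p : URing) * (uVec (p := p) 0).coeff (n + 1) := by
  have h := WittVector.ghostComponent_frobenius n (uVec (p := p) 0)
  have hm : WittVector.map (TrivSqZeroExt.fstHom ℤ ℤ UIdx).toRingHom (WittVector.frobenius (uVec (p := p) 0)) = 0 := by
    rw [((WittVector.frobenius_isPoly p).map _ _), map_fst_uVec, map_zero]
  rw [ghost_sqzero _ (coeff_sq_eq_zero_of_map_fst _ (map_fst_uVec 0)),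
    ghost_sqzero _ (coeff_sq_eq_zero_of_map_fst _ hm), pow_succ, mul_assoc, ← Nat.cast_pow] at h
  exact uRing_cancel (pow_ne_zero _ (Fact.out : p.Prime).ne_zero) h

variable {S : Type u} [CommRing S] {𝔞 : Ideal S}

/-- Specialisation of the universal coefficients. -/
theorem exists_spec (h𝔞 : ∀ a ∈ 𝔞, ∀ b ∈ 𝔞, a * b = 0) (x y : WittVector p S) (hx : ∀ i, x.coeff i ∈ 𝔞)
    (hy : ∀ i, y.coeff i ∈ 𝔞) :
    ∃ g : URing →+* S, WittVector.map g (uVec 0) = x ∧ WittVector.map g (uVec 1) = y := by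
  let c : Fin 2 × ℕ → S := fun kn => if kn.1 = 0 then x.coeff kn.2 else y.coeff kn.2
  let m : UIdx →ₗ[ℤ] S := Finsupp.linearCombination ℤ c
  have hm : ∀ u, m u ∈ 𝔞 := by
    intro u
    induction u using Finsupp.induction_linear with
    | zero => rw [map_zero]; exact 𝔞.zero_mem
    | add a b ha hb => rw [map_add]; exact 𝔞.add_mem ha hb
    | single kn z =>
      rw [Finsupp.linearCombination_single, zsmul_eq_mul]
      refine 𝔞.mul_mem_left _ ?_
      show (if kn.1 = 0 then x.coeff kn.2 else y.coeff kn.2) ∈ 𝔞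
      split
      · exact hx _
      · exact hy _
  let g := TrivSqZeroExt.liftEquivOfComm (R' := ℤ) (M := UIdx) (A := S) ⟨m, fun u v => h𝔞 _ (hm u) _ (hm v)⟩
  refine ⟨g.toRingHom, ?_, ?_⟩ <;>
  · ext n
    rw [WittVector.map_coeff]
    show g (TrivSqZeroExt.inr (Finsupp.single _ 1)) = _
    simp [g, TrivSqZeroExt.liftEquivOfComm_apply, TrivSqZeroExt.lift_apply_inr, m, c]

/-- Addition is componentwise on Witt vectors with square-zero coefficients. -/
theorem coeff_add_sqzero (h𝔞 : ∀ a ∈ 𝔞, ∀ b ∈ 𝔞, a * b = 0) (x y : WittVector p S) (hx : ∀ i, x.coeff i ∈ 𝔞)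
    (hy : ∀ i, y.coeff i ∈ 𝔞) (n : ℕ) : (x + y).coeff n = x.coeff n + y.coeff n := by
  obtain ⟨g, rfl, rfl⟩ := exists_spec h𝔞 x y hx hy
  rw [← map_add, WittVector.map_coeff, uVec_add, map_add, ← WittVector.map_coeff, ← WittVector.map_coeff]

theorem map_frobenius' {A : Type*} {B : Type*} [CommRing A] [CommRing B] (g : A →+* B) (x : WittVector p A) :
    WittVector.map g (WittVector.frobenius x) = WittVector.frobenius (WittVector.map g x) := by
  ext n
  rw [WittVector.map_coeff, WittVector.coeff_frobenius, WittVector.coeff_frobenius, MvPolynomial.map_aeval,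
    MvPolynomial.aeval_eq_eval₂Hom]
  refine DFunLike.congr_fun ?_ _
  exact congrArg₂ MvPolynomial.eval₂Hom (RingHom.ext_int _ _) (funext fun i => (WittVector.map_coeff g x i).symm)

/-- The Frobenius on Witt vectors with square-zero coefficients. -/
theorem coeff_frobenius_sqzero (h𝔞 : ∀ a ∈ 𝔞, ∀ b ∈ 𝔞, a * b = 0) (x : WittVector p S) (hx : ∀ i, x.coeff i ∈ 𝔞)
    (n : ℕ) : (WittVector.frobenius x).coeff n = (p : S) * x.coeff (n + 1) := by
  obtain ⟨g, rfl, -⟩ := exists_spec h𝔞 x x hx hx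
  rw [← map_frobenius' g, WittVector.map_coeff, uVec_frobenius, map_mul, map_natCast,
    ← WittVector.map_coeff]

/-- The ideal of Witt vectors with coefficients in `𝔞`. -/
def wIdeal (p : ℕ) [Fact p.Prime] {S : Type u} [CommRing S] (𝔞 : Ideal S) : Ideal (WittVector p S) :=
  RingHom.ker (WittVector.map (Ideal.Quotient.mk 𝔞))

theorem mem_wIdeal (x : WittVector p S) : x ∈ wIdeal p 𝔞 ↔ ∀ i, x.coeff i ∈ 𝔞 := by
  rw [wIdeal, RingHom.mem_ker, WittVector.ext_iff]
  refine forall_congr' fun i => ?_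
  rw [WittVector.map_coeff, WittVector.zero_coeff, Ideal.Quotient.eq_zero_iff_mem]

theorem ker_map_eq_wIdeal {R : Type v} [CommRing R] (f : S →+* R) :
    RingHom.ker (WittVector.map (p := p) f) = wIdeal p (RingHom.ker f) := by
  ext x
  rw [mem_wIdeal, RingHom.mem_ker, WittVector.ext_iff]
  refine forall_congr' fun i => ?_
  rw [WittVector.map_coeff, WittVector.zero_coeff, RingHom.mem_ker]

theorem wIdeal_mono {𝔟 : Ideal S} (h : 𝔞 ≤ 𝔟) : wIdeal p 𝔞 ≤ wIdeal p 𝔟 := fun x hx => by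
  rw [mem_wIdeal] at hx ⊢
  exact fun i => h (hx i)

theorem frobenius_mem_wIdeal {x : WittVector p S} (hx : x ∈ wIdeal p 𝔞) :
    WittVector.frobenius x ∈ wIdeal p 𝔞 := by
  rw [wIdeal, RingHom.mem_ker] at hx ⊢
  rw [((WittVector.frobenius_isPoly p).map _ _), hx, map_zero]

theorem vshift_mem_wIdeal {x : WittVector p S} (hx : x ∈ wIdeal p 𝔞) : vshift x ∈ wIdeal p 𝔞 := by
  rw [mem_wIdeal] at hx ⊢
  exact fun i => hx _

theorem verschiebung_mem_wIdeal {x : WittVector p S} (hx : x ∈ wIdeal p 𝔞) :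
    WittVector.verschiebung x ∈ wIdeal p 𝔞 := by
  rw [wIdeal, RingHom.mem_ker] at hx ⊢
  rw [WittVector.map_verschiebung, hx, map_zero]

theorem frobenius_eq_zero_of_sqzero (h𝔞 : ∀ a ∈ 𝔞, ∀ b ∈ 𝔞, a * b = 0) (hp𝔞 : ∀ a ∈ 𝔞, (p : S) * a = 0)
    {x : WittVector p S} (hx : x ∈ wIdeal p 𝔞) : WittVector.frobenius x = 0 := by
  rw [mem_wIdeal] at hx
  ext n
  rw [coeff_frobenius_sqzero h𝔞 x hx, WittVector.zero_coeff, hp𝔞 _ (hx _)]

theorem p_mul_eq_zero_of_sqzero (h𝔞 : ∀ a ∈ 𝔞, ∀ b ∈ 𝔞, a * b = 0) (hp𝔞 : ∀ a ∈ 𝔞, (p : S) * a = 0)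
    {x : WittVector p S} (hx : x ∈ wIdeal p 𝔞) : (p : WittVector p S) * x = 0 := by
  rw [← frobenius_verschiebung']
  exact frobenius_eq_zero_of_sqzero h𝔞 hp𝔞 (verschiebung_mem_wIdeal hx)

theorem IV_mul_eq_zero_of_sqzero (h𝔞 : ∀ a ∈ 𝔞, ∀ b ∈ 𝔞, a * b = 0) (hp𝔞 : ∀ a ∈ 𝔞, (p : S) * a = 0)
    {x : WittVector p S} (hx : x ∈ wIdeal p 𝔞) {r : WittVector p S} (hr : r ∈ IV p S) : r * x = 0 := by
  obtain ⟨u, rfl⟩ := exists_verschiebung_eq hr
  rw [← WittVector.verschiebung_mul_frobenius, frobenius_eq_zero_of_sqzero h𝔞 hp𝔞 hx, mul_zero, map_zero]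

theorem vshift_add_sqzero (h𝔞 : ∀ a ∈ 𝔞, ∀ b ∈ 𝔞, a * b = 0) {x y : WittVector p S} (hx : x ∈ wIdeal p 𝔞)
    (hy : y ∈ wIdeal p 𝔞) : vshift (x + y) = vshift x + vshift y := by
  ext n
  rw [coeff_add_sqzero h𝔞 (vshift x) (vshift y) ((mem_wIdeal _).1 (vshift_mem_wIdeal hx))
    ((mem_wIdeal _).1 (vshift_mem_wIdeal hy))]
  show (x + y).coeff _ = _
  rw [coeff_add_sqzero h𝔞 x y ((mem_wIdeal _).1 hx) ((mem_wIdeal _).1 hy)]
  rfl

theorem teichmuller_mem_wIdeal {a : S} (ha : a ∈ 𝔞) : WittVector.teichmuller p a ∈ wIdeal p 𝔞 := by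
  rw [wIdeal, RingHom.mem_ker, WittVector.map_teichmuller, Ideal.Quotient.eq_zero_iff_mem.2 ha, WittVector.teichmuller_zero]

theorem sqzero_decomp (h𝔞 : ∀ a ∈ 𝔞, ∀ b ∈ 𝔞, a * b = 0) {x : WittVector p S} (hx : x ∈ wIdeal p 𝔞) :
    x = WittVector.teichmuller p (x.coeff 0) + WittVector.verschiebung (vshift x) := by
  have hx' := (mem_wIdeal _).1 hx
  ext n
  rw [coeff_add_sqzero h𝔞 _ _ ((mem_wIdeal _).1 (teichmuller_mem_wIdeal (hx' 0)))
    ((mem_wIdeal _).1 (verschiebung_mem_wIdeal (vshift_mem_wIdeal hx)))]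
  cases n with
  | zero => rw [WittVector.teichmuller_coeff_zero, WittVector.verschiebung_coeff_zero, add_zero]
  | succ n =>
    rw [WittVector.teichmuller_coeff_pos _ _ _ n.succ_pos, WittVector.verschiebung_coeff_succ, zero_add]
    show x.coeff (n + 1) = x.coeff (1 + n)
    rw [add_comm]

theorem vshift_teichmuller (a : S) : vshift (WittVector.teichmuller p a) = 0 := by
  ext n
  show (WittVector.teichmuller p a).coeff _ = _
  rw [WittVector.teichmuller_coeff_pos _ _ _ (by omega), WittVector.zero_coeff]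

theorem vshift_mul_sqzero (h𝔞 : ∀ a ∈ 𝔞, ∀ b ∈ 𝔞, a * b = 0) (hp𝔞 : ∀ a ∈ 𝔞, (p : S) * a = 0)
    (w : WittVector p S) {x : WittVector p S} (hx : x ∈ wIdeal p 𝔞) :
    vshift (w * x) = WittVector.frobenius w * vshift x := by
  have hx' := (mem_wIdeal _).1 hx
  have ht := teichmuller_mem_wIdeal (p := p) (hx' 0)
  have hw : w - WittVector.teichmuller p (w.coeff 0) ∈ IV p S := by
    rw [IV_eq_ker, RingHom.mem_ker, map_sub]
    exact sub_eq_zero.2 (WittVector.teichmuller_coeff_zero p (w.coeff 0)).symm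
  have e1 : w * WittVector.teichmuller p (x.coeff 0) = WittVector.teichmuller p (w.coeff 0 * x.coeff 0) := by
    rw [map_mul, ← sub_eq_zero, ← sub_mul]
    exact IV_mul_eq_zero_of_sqzero h𝔞 hp𝔞 ht hw
  conv_lhs => rw [sqzero_decomp h𝔞 hx, mul_add, e1, ← verschiebung_frobenius_mul]
  rw [vshift_add_sqzero h𝔞 (teichmuller_mem_wIdeal (Ideal.mul_mem_left _ _ (hx' 0)))
    (verschiebung_mem_wIdeal (Ideal.mul_mem_left _ _ (vshift_mem_wIdeal hx))), vshift_teichmuller, zero_add,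
    vshift_verschiebung]

end Groth.Agent.Disp23
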